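import Groth.Agent.RG29.DevFlatFree
import Groth.Agent.RG29.DevBaseChange
import Groth.Agent.Spec91.PullbackPoint
import Groth.Agent.FlatMor67.FlatAtBC
import Mathlib

/-!
A module with a complete dévissage over a prime `p`, flat at suitable points of the fibre, becomes free
and finitely presented over every local ring whose closed point lies over `p`.
-/

set_option autoImplicit false
set_option linter.style.haveILetI false

universe u

open TensorProduct

namespace Groth.Agent.FlatCrit65.Dev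

open RG29

/-- A point of a pushout over a compatible pair of points. -/
theorem exists_prime_pushout {R S R' S' : Type u} [CommRing R] [CommRing S] [CommRing R'] [CommRing S'] [Algebra R S]
    [Algebra R R'] [Algebra S S'] [Algebra R' S'] [Algebra R S'] [IsScalarTower R S S'] [IsScalarTower R R' S']
    [Algebra.IsPushout R S R' S'] (q : Ideal S) [q.IsPrime] (p' : Ideal R') [p'.IsPrime]
    (h : q.comap (algebraMap R S) = p'.comap (algebraMap R R')) :
    ∃ Q : PrimeSpectrum S', Q.asIdeal.comap (algebraMap S S') = q ∧ Q.asIdeal.comap (algebraMap R' S') = p' := by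
  obtain ⟨r, hr, hq, hp⟩ := Spec91.exists_prime_tensor q p' h
  let e := Algebra.IsPushout.equiv R S R' S'
  refine ⟨⟨r.comap e.symm.toAlgHom.toRingHom, inferInstance⟩, ?_, ?_⟩
  · ext s
    show e.symm (algebraMap S S' s) ∈ r ↔ s ∈ q
    rw [show e.symm (algebraMap S S' s) = algebraMap S (S ⊗[R] R') s from e.symm.commutes s, ← hq]
    rfl
  · ext t
    show e.symm (algebraMap R' S' t) ∈ r ↔ t ∈ p'
    rw [Algebra.IsPushout.equiv_symm_algebraMap_right, ← hp]
    rfl

/-- Flatness at all the points over a point of an integral subalgebra gives flatness at that point. -/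
theorem flatAt_of_forall_over {R D C M : Type u} [CommRing R] [CommRing D] [CommRing C] [Algebra R D]
    [Algebra R C] [Algebra D C] [Algebra.IsIntegral D C] [AddCommGroup M] [Module C M] [Module D M] [Module R M]
    [IsScalarTower D C M] [IsScalarTower R C M] [IsScalarTower R D M] (y : Ideal D) [y.IsPrime]
    (h : ∀ (Q : Ideal C) [Q.IsPrime], Q.comap (algebraMap D C) = y → FlatCA.FlatAt R Q M) :
    FlatCA.FlatAt R y M := by
  unfold FlatCA.FlatAt
  rw [FlatCrit65.flat_localized_iff_kernels]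
  intro I x hx
  let J := LinearMap.ker (LinearMap.toSpanSingleton C (M ⊗[R] I) x)
  by_cases hd : ∃ d : D, d ∉ y ∧ algebraMap D C d ∈ J
  · obtain ⟨d, hdy, hdJ⟩ := hd
    rw [LinearMap.mem_ker, LinearMap.toSpanSingleton_apply, algebraMap_smul] at hdJ
    exact ⟨d, hdy, hdJ⟩
  · exfalso
    obtain ⟨Q, hQJ, hQp, hQy⟩ := Ideal.exists_ideal_over_prime_of_isIntegral y J fun d hdJ => by
      by_contra hdy
      exact hd ⟨d, hdy, hdJ⟩
    have hQ := @h Q hQp hQy
    unfold FlatCA.FlatAt at hQ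
    rw [FlatCrit65.flat_localized_iff_kernels] at hQ
    obtain ⟨s, hs, hsx⟩ := hQ I x hx
    exact hs (hQJ (by rw [LinearMap.mem_ker, LinearMap.toSpanSingleton_apply, hsx]))

/-- Flatness at a prime along a surjection. -/
theorem flatAt_of_surjective_algebra {R S C M : Type u} [CommRing R] [CommRing S] [CommRing C] [Algebra R S]
    [Algebra R C] [Algebra S C] (hsurj : Function.Surjective (algebraMap S C)) [AddCommGroup M] [Module C M]
    [Module S M] [Module R M] [IsScalarTower S C M] [IsScalarTower R C M] [IsScalarTower R S M]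
    (z : Ideal C) [z.IsPrime] (h : FlatCA.FlatAt R (z.comap (algebraMap S C)) M) : FlatCA.FlatAt R z M :=
  (flatAt_iff_of_algebra z (z.comap (algebraMap S C)) rfl fun J hJ => exists_mem_of_surjective hsurj z J hJ).2 h

/-- No element of any tensor product with a module over the base is killed by an ideal avoiding all the
given points. -/
def NoTorsionOff (A : Type u) {S'' : Type u} [CommRing A] [CommRing S''] [Algebra A S''] (N'' : Type u)
    [AddCommGroup N''] [Module S'' N''] [Module A N''] [IsScalarTower A S'' N''] (Z : Set (PrimeSpectrum S'')) : Prop :=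
  ∀ (X : Type u) [AddCommGroup X] [Module A X] (J : Ideal S''), (∀ Q ∈ Z, ¬ J ≤ Q.asIdeal) →
    ∀ x : N'' ⊗[A] X, (∀ s ∈ J, s • x = 0) → x = 0

theorem noTorsionOff_of_subsingleton (A : Type u) {S'' : Type u} [CommRing A] [CommRing S''] [Algebra A S'']
    (N'' : Type u) [AddCommGroup N''] [Module S'' N''] [Module A N''] [IsScalarTower A S'' N''] [Subsingleton N'']
    (Z : Set (PrimeSpectrum S'')) : NoTorsionOff A N'' Z := fun X _ _ _ _ x _ => by
  haveI : Subsingleton (N'' ⊗[A] X) := subsingleton_of_forall_eq 0 fun z => by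
    induction z using TensorProduct.induction_on with
    | zero => rfl
    | tmul n v => rw [Subsingleton.elim n 0, zero_tmul]
    | add a b ha hb => rw [ha, hb, add_zero]
  exact Subsingleton.elim _ _

/-- Absence of torsion off the points passes through the extension of one step. -/
theorem noTorsionOff_step {A D₁ C₁ S'' G₁ Q₁ N'' : Type u} [CommRing A] [IsLocalRing A] [CommRing D₁] [CommRing C₁] [CommRing S'']
    [Algebra A D₁] [Algebra A C₁] [Algebra A S''] [Algebra D₁ C₁] [Algebra S'' C₁] [IsScalarTower A D₁ C₁]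
    [IsScalarTower A S'' C₁] [Algebra.IsIntegral D₁ C₁] [Algebra.Smooth A D₁] (hirr₁ : FlatCA.GeomIrredFibres A D₁)
    [AddCommGroup G₁] [Module C₁ G₁] [Module D₁ G₁] [Module S'' G₁] [Module A G₁] [IsScalarTower D₁ C₁ G₁]
    [IsScalarTower S'' C₁ G₁] [IsScalarTower A D₁ G₁] [IsScalarTower A C₁ G₁] [IsScalarTower A S'' G₁]
    [AddCommGroup Q₁] [Module D₁ Q₁] [Module A Q₁] [IsScalarTower A D₁ Q₁]
    [AddCommGroup N''] [Module S'' N''] [Module A N''] [IsScalarTower A S'' N''] (e₁ : N'' ≃ₗ[S''] G₁)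
    {r : ℕ} (α₁ : (Fin r → D₁) →ₗ[D₁] G₁) (hu : CAlgX.UniversallyInjective A (α₁.restrictScalars A))
    (g : G₁ →ₗ[D₁] Q₁) (hg : Function.Surjective g) (hex : Function.Exact α₁ g)
    (Z₂ : Set (PrimeSpectrum D₁)) (hne : Z₂.Nonempty)
    (hover : ∀ y₁ ∈ Z₂, y₁.asIdeal.comap (algebraMap A D₁) = IsLocalRing.maximalIdeal A)
    (Z : Set (PrimeSpectrum S''))
    (hchain : ∀ P : PrimeSpectrum C₁, PrimeSpectrum.comap (algebraMap D₁ C₁) P ∈ Z₂ →
      PrimeSpectrum.comap (algebraMap S'' C₁) P ∈ Z)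
    (hQ : NoTorsionOff A Q₁ Z₂) : NoTorsionOff A N'' Z := by
  intro X _ _ J hJ x hx
  let E : N'' ⊗[A] X ≃ₗ[S''] G₁ ⊗[A] X := AlgebraTensorModule.congr e₁ (LinearEquiv.refl A X)
  apply E.injective
  rw [map_zero]
  let JC : Ideal C₁ := J.map (algebraMap S'' C₁)
  let Jd : Ideal D₁ := JC.comap (algebraMap D₁ C₁)
  have hJC : ∀ c ∈ JC, c • E x = 0 := by
    intro c hc
    suffices JC ≤ LinearMap.ker (LinearMap.toSpanSingleton C₁ (G₁ ⊗[A] X) (E x)) by simpa using this hc
    refine Ideal.map_le_iff_le_comap.2 fun s hs => ?_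
    show algebraMap S'' C₁ s • E x = 0
    rw [algebraMap_smul, ← map_smul, hx s hs, map_zero]
  have hJd : ∀ y₁ ∈ Z₂, ¬ Jd ≤ y₁.asIdeal := fun y₁ hy hle => by
    obtain ⟨P, hPJ, hPp, hPy⟩ := Ideal.exists_ideal_over_prime_of_isIntegral y₁.asIdeal JC hle
    exact hJ _ (hchain ⟨P, hPp⟩ (by convert hy using 1; exact PrimeSpectrum.ext hPy))
      (fun s hs => hPJ (Ideal.mem_map_of_mem _ hs))
  have hdx : ∀ d ∈ Jd, d • E x = 0 := fun d hd => by rw [← algebraMap_smul C₁ d (E x)]; exact hJC _ hd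
  have hgx : (g.restrictScalars A).rTensor X (E x) = 0 := hQ X Jd hJd _ fun d hd => by
    show d • AlgebraTensorModule.rTensor A X g (E x) = 0
    rw [← map_smul, hdx d hd, map_zero]
  obtain ⟨v, hv⟩ := (rTensor_exact X (f := α₁.restrictScalars A) (g := g.restrictScalars A) hex hg _).1 hgx
  rw [← hv]
  obtain ⟨y₁, hy⟩ := hne
  haveI : ((IsLocalRing.maximalIdeal A).map (algebraMap A D₁)).IsPrime := isPrime_map _ hirr₁
  obtain ⟨d, hd, hdy⟩ := SetLike.not_le_iff_exists.1 (hJd y₁ hy)
  have hdw : d ∉ (IsLocalRing.maximalIdeal A).map (algebraMap A D₁) := fun h =>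
    hdy (Ideal.map_le_iff_le_comap.2 (hover y₁ hy).ge h)
  have hdv : d • v = 0 := hu X (by
    show AlgebraTensorModule.rTensor A X α₁ (d • v) = _
    rw [map_smul, show AlgebraTensorModule.rTensor A X α₁ v = E x from hv, hdx d hd, map_zero])
  have hmul : ∀ w : (Fin r → D₁) ⊗[A] X, ((LinearMap.mulLeft A d).compLeft (Fin r)).rTensor X w = d • w := fun w => by
    induction w using TensorProduct.induction_on with
    | zero => simp
    | tmul u c => rfl
    | add a b ha hb => simp only [map_add, smul_add, ha, hb]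
  have hv0 : v = 0 := univInj_compLeft (LinearMap.mulLeft A d)
    (fun X _ _ => univInj_mulLeft hirr₁ d (fun P _ => one_tmul_ne_zero hirr₁ d hdw P) X) r X
    (by rw [hmul, hdv, map_zero])
  rw [hv0, map_zero]

set_option maxHeartbeats 1000000 in
/-- One step over the local ring. -/
theorem step_free {R A : Type u} [CommRing R] [CommRing A] [IsLocalRing A] [Algebra R A]
    (p : Ideal R) [p.IsPrime] (hA : (IsLocalRing.maximalIdeal A).comap (algebraMap R A) = p)
    {S S'' : Type u} [CommRing S] [CommRing S''] [Algebra S S''] [Algebra A S'']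
    {N N'' : Type u} [AddCommGroup N] [Module S N] [AddCommGroup N''] [Module S'' N''] [Module S N'']
    [IsScalarTower S S'' N''] [Module A N''] [IsScalarTower A S'' N''] {i : N →ₗ[S] N''} (hi : IsBaseChange S'' i)
    {C D G C₁ D₁ : Type u} [CommRing C] [CommRing D] [CommRing C₁] [CommRing D₁] [Algebra S C] [Algebra R D]
    [Algebra D C] [AddCommGroup G] [Module C G] [Module S G] [IsScalarTower S C G] [Module D G]
    [IsScalarTower D C G] [hP : (p.map (algebraMap R D)).IsPrime] [Module.Finite D C] [Module.Finite C G]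
    [Algebra.Smooth R D] [Algebra D D₁] [Algebra A D₁] [Algebra R D₁]
    [IsScalarTower R A D₁] [IsScalarTower R D D₁] [Algebra.IsPushout R D A D₁] [Algebra C C₁] [Algebra D₁ C₁]
    [Algebra D C₁] [IsScalarTower D C C₁] [IsScalarTower D D₁ C₁] [Algebra.IsPushout D D₁ C C₁]
    [Algebra S'' C₁] [Algebra S C₁] [IsScalarTower S C C₁] [IsScalarTower S S'' C₁] [Algebra.IsPushout S S'' C C₁]
    [Algebra A C₁] [IsScalarTower A D₁ C₁] [IsScalarTower A S'' C₁]
    [hsm₁ : Algebra.Smooth A D₁] (hirr₁ : FlatCA.GeomIrredFibres A D₁)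
    (hsurj : Function.Surjective (algebraMap S'' C₁)) (hfp : Algebra.FinitePresentation S'' C₁)
    (isoN : N ≃ₗ[S] G) {r : ℕ} (α : (Fin r → D) →ₗ[D] G)
    (hα : Function.Bijective (α.baseChange (p.map (algebraMap R D)).ResidueField))
    (Z₀ : Set (PrimeSpectrum S)) (Zd : Set (PrimeSpectrum D)) (hne : Zd.Nonempty)
    (hover : ∀ y ∈ Zd, y.asIdeal.comap (algebraMap R D) = p)
    (hchain : ∀ z : PrimeSpectrum C, PrimeSpectrum.comap (algebraMap D C) z ∈ Zd →
      PrimeSpectrum.comap (algebraMap S C) z ∈ Z₀)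
    (hflat : ∀ Q : PrimeSpectrum S'', Q.asIdeal.comap (algebraMap A S'') = IsLocalRing.maximalIdeal A →
      PrimeSpectrum.comap (algebraMap S S'') Q ∈ Z₀ → FlatCA.FlatAt A Q.asIdeal N'')
    (htail : ∀ (M₂ : Type u) [AddCommGroup M₂] [Module D₁ M₂] [Module D M₂] [IsScalarTower D D₁ M₂]
      [Module A M₂] [IsScalarTower A D₁ M₂] (j : (G ⧸ LinearMap.range α) →ₗ[D] M₂), IsBaseChange D₁ j →
      (∀ y₁ : PrimeSpectrum D₁, y₁.asIdeal.comap (algebraMap A D₁) = IsLocalRing.maximalIdeal A →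
        PrimeSpectrum.comap (algebraMap D D₁) y₁ ∈ Zd → FlatCA.FlatAt A y₁.asIdeal M₂) →
      Module.Free A M₂ ∧ Module.FinitePresentation D₁ M₂ ∧
        NoTorsionOff A M₂ {y₁ | y₁.asIdeal.comap (algebraMap A D₁) = IsLocalRing.maximalIdeal A ∧
          PrimeSpectrum.comap (algebraMap D D₁) y₁ ∈ Zd}) :
    Module.Free A N'' ∧ Module.FinitePresentation S'' N'' ∧
      NoTorsionOff A N'' {Q | Q.asIdeal.comap (algebraMap A S'') = IsLocalRing.maximalIdeal A ∧
        PrimeSpectrum.comap (algebraMap S S'') Q ∈ Z₀} := by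
  haveI : Module.Finite D₁ C₁ := Module.Finite.equiv (Algebra.IsPushout.equiv D D₁ C C₁).toLinearEquiv
  haveI : Algebra.IsIntegral D₁ C₁ := Algebra.IsIntegral.of_finite D₁ C₁
  let m := IsLocalRing.maximalIdeal A
  haveI : (m.map (algebraMap A D₁)).IsPrime := isPrime_map m hirr₁
  let w := p.map (algebraMap R D)
  let w₁ := m.map (algebraMap A D₁)
  -- points over the chosen points
  have hpt : ∀ y : PrimeSpectrum D, y.asIdeal.comap (algebraMap R D) = p →
      ∃ y₁ : PrimeSpectrum D₁, y₁.asIdeal.comap (algebraMap D D₁) = y.asIdeal ∧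
        y₁.asIdeal.comap (algebraMap A D₁) = m := fun y hy =>
    exists_prime_pushout (R := R) (S := D) (R' := A) y.asIdeal m (hy.trans hA.symm)
  obtain ⟨y₀, hy₀⟩ := hne
  haveI hwo : w₁.LiesOver w := by
    refine ⟨le_antisymm (Ideal.map_le_iff_le_comap.2 fun r hr => ?_) ?_⟩
    · show algebraMap D D₁ (algebraMap R D r) ∈ w₁
      rw [← IsScalarTower.algebraMap_apply, IsScalarTower.algebraMap_apply R A D₁]
      exact Ideal.mem_map_of_mem _ (hA.ge hr)
    · have hwy : w.comap (algebraMap R D) = p :=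
        le_antisymm ((Ideal.comap_mono (Ideal.map_le_iff_le_comap.2 (hover y₀ hy₀).ge)).trans (hover y₀ hy₀).le)
          Ideal.le_comap_map
      obtain ⟨y₁, h1, h2⟩ := hpt ⟨w, hP⟩ hwy
      exact (Ideal.comap_mono (Ideal.map_le_iff_le_comap.2 h2.ge)).trans h1.le
  -- the module
  haveI : SMulCommClass C D₁ C₁ := ⟨fun c d v => by rw [Algebra.smul_def c, Algebra.smul_def c, mul_smul_comm]⟩
  haveI : SMulCommClass C S'' C₁ := ⟨fun c d v => by rw [Algebra.smul_def c, Algebra.smul_def c, mul_smul_comm]⟩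
  haveI : SMulCommClass C A C₁ := ⟨fun c d v => by rw [Algebra.smul_def c, Algebra.smul_def c, mul_smul_comm]⟩
  haveI : SMulCommClass C D C₁ := ⟨fun c d v => by rw [Algebra.smul_def c, Algebra.smul_def c, mul_smul_comm]⟩
  haveI : SMulCommClass C S C₁ := ⟨fun c d v => by rw [Algebra.smul_def c, Algebra.smul_def c, mul_smul_comm]⟩
  let G₁ := C₁ ⊗[C] G
  haveI : Module.Finite C₁ G₁ := Module.Finite.base_change C C₁ G
  haveI : Module.Finite D₁ G₁ := Module.Finite.trans C₁ G₁
  let jD : G →ₗ[D] G₁ := ((TensorProduct.mk C C₁ G) 1).restrictScalars D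
  have hjD : IsBaseChange D₁ jD := isBaseChange_of_pushout (S := D) (S₂ := D₁) (C := C) (C₂ := C₁) G
  let jS : G →ₗ[S] G₁ := ((TensorProduct.mk C C₁ G) 1).restrictScalars S
  have hjS : IsBaseChange S'' jS := isBaseChange_of_pushout (S := S) (S₂ := S'') (C := C) (C₂ := C₁) G
  have hjN : IsBaseChange S'' ((jS.restrictScalars S).comp isoN.toLinearMap) :=
    (IsBaseChange.ofEquiv isoN).comp hjS
  obtain ⟨e₁⟩ : Nonempty (N'' ≃ₗ[S''] G₁) := ⟨hi.equiv.symm.trans hjN.equiv⟩
  obtain ⟨α₁, hα₁⟩ := exists_map_baseChange (D₂ := D₁) (G₂ := G₁) α jD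
  have hbij : Function.Bijective (α₁.baseChange w₁.ResidueField) := bijective_at_extension w w₁ hjD hα₁ hα
  -- flatness on the middle ring
  have hfy : ∀ y₁ : PrimeSpectrum D₁, y₁.asIdeal.comap (algebraMap A D₁) = m →
      PrimeSpectrum.comap (algebraMap D D₁) y₁ ∈ Zd → FlatCA.FlatAt A y₁.asIdeal G₁ := fun y₁ hm hy => by
    refine flatAt_of_forall_over (C := C₁) y₁.asIdeal fun Q hQ hQy => ?_
    refine flatAt_of_surjective_algebra hsurj Q (FlatCrit65.flat_localized_equiv e₁ _ (hflat ⟨Q.comap (algebraMap S'' C₁), inferInstance⟩ ?_ ?_))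
    · show (Q.comap (algebraMap S'' C₁)).comap (algebraMap A S'') = _
      rw [Ideal.comap_comap, ← IsScalarTower.algebraMap_eq, IsScalarTower.algebraMap_eq A D₁ C₁, ← Ideal.comap_comap,
        hQy, hm]
    · have hz := hchain ⟨Q.comap (algebraMap C C₁), inferInstance⟩ (by
        convert hy using 1
        apply PrimeSpectrum.ext
        show (Q.comap (algebraMap C C₁)).comap (algebraMap D C) = y₁.asIdeal.comap (algebraMap D D₁)
        rw [← hQy, Ideal.comap_comap, Ideal.comap_comap, ← IsScalarTower.algebraMap_eq, ← IsScalarTower.algebraMap_eq])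
      convert hz using 1
      apply PrimeSpectrum.ext
      show (Q.comap (algebraMap S'' C₁)).comap (algebraMap S S'') = (Q.comap (algebraMap C C₁)).comap (algebraMap S C)
      rw [Ideal.comap_comap, Ideal.comap_comap, ← IsScalarTower.algebraMap_eq, ← IsScalarTower.algebraMap_eq]
  have hfw : FlatCA.FlatAt A w₁ G₁ := by
    obtain ⟨y₁, h1, h2⟩ := hpt y₀ (hover y₀ hy₀)
    exact FlatCrit65.flat_localized_of_le (Ideal.map_le_iff_le_comap.2 h2.ge)
      (hfy y₁ h2 (by rwa [show PrimeSpectrum.comap (algebraMap D D₁) y₁ = y₀ from PrimeSpectrum.ext h1]))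
  have hu : CAlgX.UniversallyInjective A (α₁.restrictScalars A) := univInj_of_flatAt hirr₁ w₁ rfl hfw α₁ hbij
  have hinj : Function.Injective α₁ := fun a b hab => (TensorProduct.rid A _).symm.injective (hu A (by
    rw [TensorProduct.rid_symm_apply, TensorProduct.rid_symm_apply, LinearMap.rTensor_tmul, LinearMap.rTensor_tmul,
      LinearMap.restrictScalars_apply, LinearMap.restrictScalars_apply, hab]))
  -- the cokernel
  let g : G₁ →ₗ[D₁] G₁ ⧸ LinearMap.range α₁ := (LinearMap.range α₁).mkQ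
  have hg : Function.Surjective g := Submodule.mkQ_surjective _
  have hex : Function.Exact α₁ g := LinearMap.exact_map_mkQ_range α₁
  obtain ⟨hfreeQ, hfpQ, htor⟩ := htail _ _ (isBaseChange_coker hjD hα₁) fun y₁ hm hy =>
    flatAt_coker y₁.asIdeal (hfy y₁ hm hy) (α₁.restrictScalars A) hu g hg hex
  haveI := hfreeQ
  haveI := hfpQ
  haveI : Module.Projective A D₁ := projective_of_smooth_geomIrred hirr₁
  haveI : Module.Free A D₁ := CAlg1.free_of_projective
  obtain ⟨e⟩ := exists_equiv_prod (α₁.restrictScalars A) (g.restrictScalars A) hinj hg hex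
  haveI : Module.Free A G₁ := Module.Free.of_equiv e.symm
  haveI : Module.FinitePresentation D₁ (LinearMap.ker g) := by
    haveI := Module.finitePresentation_of_projective D₁ (Fin r → D₁)
    let ek : (Fin r → D₁) ≃ₗ[D₁] LinearMap.ker g :=
      (LinearEquiv.ofInjective α₁ hinj).trans (LinearEquiv.ofEq _ _ (Submodule.ker_mkQ _).symm)
    exact Module.FinitePresentation.of_equiv (R := D₁) (M := Fin r → D₁) (N := LinearMap.ker g) ek
  haveI : Module.FinitePresentation D₁ G₁ := Module.finitePresentation_of_ker g hg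
  haveI : Module.FinitePresentation C₁ G₁ := FlatCrit65.finitePresentation_of_finite_algebra (A := D₁) G₁
  haveI : Module.FinitePresentation S'' G₁ := finitePresentation_of_surjective_algebra hsurj G₁
  refine ⟨Module.Free.of_equiv (e₁.restrictScalars A).symm,
    Module.finitePresentation_of_surjective e₁.symm.toLinearMap e₁.symm.surjective
      (by rw [LinearEquiv.ker]; exact Submodule.fg_bot), ?_⟩
  obtain ⟨y₁, h1, h2⟩ := hpt y₀ (hover y₀ hy₀)
  refine noTorsionOff_step (D₁ := D₁) (C₁ := C₁) (S'' := S'') (G₁ := G₁) (Q₁ := G₁ ⧸ LinearMap.range α₁) (N'' := N'')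
    hirr₁ e₁ α₁ hu g hg hex
    {y₁ | y₁.asIdeal.comap (algebraMap A D₁) = IsLocalRing.maximalIdeal A ∧
      PrimeSpectrum.comap (algebraMap D D₁) y₁ ∈ Zd}
    ⟨y₁, h2, by rwa [show PrimeSpectrum.comap (algebraMap D D₁) y₁ = y₀ from PrimeSpectrum.ext h1]⟩
    (fun y hy => hy.1) _ (fun P hP => ?_) htor
  have key : ∀ {T₁ T₂ T₃ T₄ : Type u} [CommRing T₁] [CommRing T₂] [CommRing T₃] [CommRing T₄] [Algebra T₁ T₂]
      [Algebra T₂ T₄] [Algebra T₁ T₃] [Algebra T₃ T₄] [Algebra T₁ T₄] [IsScalarTower T₁ T₂ T₄]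
      [IsScalarTower T₁ T₃ T₄] (P : PrimeSpectrum T₄),
      PrimeSpectrum.comap (algebraMap T₁ T₂) (PrimeSpectrum.comap (algebraMap T₂ T₄) P) =
        PrimeSpectrum.comap (algebraMap T₁ T₃) (PrimeSpectrum.comap (algebraMap T₃ T₄) P) := by
    intro T₁ T₂ T₃ T₄ _ _ _ _ _ _ _ _ _ _ _ P
    simp only [← PrimeSpectrum.comap_comp_apply, ← IsScalarTower.algebraMap_eq]
  refine ⟨(congrArg PrimeSpectrum.asIdeal (key (T₁ := A) (T₂ := S'') (T₃ := D₁) P)).trans hP.1, ?_⟩
  rw [key (T₁ := S) (T₂ := S'') (T₃ := C) P]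
  exact hchain _ (by rw [key (T₁ := D) (T₂ := C) (T₃ := D₁) P]; exact hP.2)

end Groth.Agent.FlatCrit65.Dev
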