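import Groth.Agent.RG29.FlatTransfer
import Groth.Agent.FlatCrit65.Point.Tools
import Groth.Agent.FlatCrit65.Dev.LocalFree
import Mathlib

/-!
Flatness and finite presentation near a point descend from an étale neighbourhood upstairs.
-/

set_option autoImplicit false
set_option linter.style.haveILetI false

universe u

open TensorProduct

namespace Groth.Agent.FlatCrit65.Dev

variable {SA C : Type u} [CommRing SA] [CommRing C] [Algebra SA C] [Algebra.Etale SA C]

/-- The image of an étale neighbourhood contains a basic open. -/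
theorem exists_basicOpen_subset_range (x' : Ideal C) [hx : x'.IsPrime] :
    ∃ g : SA, g ∉ x'.comap (algebraMap SA C) ∧
      ∀ P : PrimeSpectrum SA, g ∉ P.asIdeal → P ∈ Set.range (PrimeSpectrum.comap (algebraMap SA C)) := by
  have hopen : IsOpen (Set.range (PrimeSpectrum.comap (algebraMap SA C))) := by
    rw [← Set.image_univ]
    exact PrimeSpectrum.isOpenMap_comap_of_hasGoingDown_of_finitePresentation _ isOpen_univ
  obtain ⟨_, ⟨g, rfl⟩, hg, hsub⟩ := PrimeSpectrum.isTopologicalBasis_basic_opens.exists_subset_of_mem_open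
    (show PrimeSpectrum.comap (algebraMap SA C) ⟨x', hx⟩ ∈ Set.range _ from ⟨_, rfl⟩) hopen
  exact ⟨g, hg, fun P hP => hsub hP⟩

/-- Flatness over a basic open in the image. -/
theorem flat_powers_of_range {A : Type u} [CommRing A] [Algebra A SA] [Algebra A C] [IsScalarTower A SA C]
    (NA : Type u) [AddCommGroup NA] [Module SA NA] [Module A NA] [IsScalarTower A SA NA] (g : SA)
    (hg : ∀ P : PrimeSpectrum SA, g ∉ P.asIdeal → P ∈ Set.range (PrimeSpectrum.comap (algebraMap SA C)))
    [hflat : Module.Flat A (RestrictScalars A C (C ⊗[SA] NA))] :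
    Module.Flat A (LocalizedModule (Submonoid.powers g) NA) := by
  let Nc := C ⊗[SA] NA
  haveI : SMulCommClass SA A C := ⟨fun c d v => by rw [Algebra.smul_def c, Algebra.smul_def c, mul_smul_comm]⟩
  haveI : Module.Flat A Nc := Module.Flat.of_linearEquiv
    ({ (RestrictScalars.addEquiv A C Nc).symm with
       map_smul' := fun a x => by
         apply (RestrictScalars.addEquiv A C Nc).injective
         simp [RestrictScalars.addEquiv_map_smul] } : Nc ≃ₗ[A] RestrictScalars A C Nc)
  refine (RG29.flat_localized_iff _).2 fun I z hz => ?_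
  have hf : IsBaseChange C (TensorProduct.mk SA C NA 1) := TensorProduct.isBaseChange SA NA C
  have h1 := RG29.kernel_baseChange (R := A) hf I z hz
  have h2 : (1 : C) • RG29.bcTensorEquiv hf I ((1 : C) ⊗ₜ z) = 0 := by
    rw [one_smul]
    exact (injective_iff_map_eq_zero _).1
      (Module.Flat.lTensor_preserves_injective_linearMap (M := Nc) I.subtype I.injective_subtype) _ h1
  have h3 := RG29.mem_map_annihilator hf I z 1 h2
  let J : Ideal SA := LinearMap.ker (LinearMap.toSpanSingleton SA (NA ⊗[A] I) z)
  have hrad : g ∈ J.radical := by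
    rw [Ideal.radical_eq_sInf, Submodule.mem_sInf]
    rintro P ⟨hJP, hP⟩
    by_contra hgP
    obtain ⟨Q, hQ⟩ := hg ⟨P, hP⟩ hgP
    refine Q.isPrime.ne_top (Q.asIdeal.eq_top_iff_one.2 (Ideal.map_le_iff_le_comap.2 (fun s hs => ?_) h3))
    show s ∈ (PrimeSpectrum.comap (algebraMap SA C) Q).asIdeal
    rw [hQ]
    exact hJP hs
  obtain ⟨n, hn⟩ := hrad
  exact ⟨g ^ n, ⟨n, rfl⟩, by simpa [J] using hn⟩

/-- Finite presentation over a basic open in the image. -/
theorem finitePresentation_powers_of_range (NA : Type u) [AddCommGroup NA] [Module SA NA] (g : SA)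
    (hg : ∀ P : PrimeSpectrum SA, g ∉ P.asIdeal → P ∈ Set.range (PrimeSpectrum.comap (algebraMap SA C)))
    [Module.FinitePresentation C (C ⊗[SA] NA)] :
    Module.FinitePresentation (Localization.Away g) (LocalizedModule (Submonoid.powers g) NA) := by
  let L := Localization.Away g
  let CL := L ⊗[SA] C
  letI : Algebra C CL := Algebra.TensorProduct.rightAlgebra
  haveI : IsScalarTower SA C CL := IsScalarTower.of_algebraMap_eq (R := SA) (S := C) (A := CL) fun r =>
    ((Algebra.TensorProduct.includeRight : C →ₐ[SA] CL).commutes r).symm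
  haveI : Algebra.IsPushout SA L C CL := TensorProduct.isPushout
  haveI : Module.FaithfullyFlat L CL := by
    refine Module.FaithfullyFlat.of_comap_surjective fun P => ?_
    obtain ⟨Q, hQ⟩ := hg (PrimeSpectrum.comap (algebraMap SA L) P) fun hmem =>
      P.isPrime.ne_top (Ideal.eq_top_of_isUnit_mem _ hmem (IsLocalization.Away.algebraMap_isUnit g))
    obtain ⟨X, hX1, -⟩ := exists_prime_pushout (R := SA) (S := L) (R' := C) (S' := CL) P.asIdeal Q.asIdeal
      (congrArg PrimeSpectrum.asIdeal hQ).symm
    exact ⟨X, PrimeSpectrum.ext hX1⟩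
  let M := LocalizedModule (Submonoid.powers g) NA
  let ι : NA →ₗ[SA] M := LocalizedModule.mkLinearMap (Submonoid.powers g) NA
  have hι : IsBaseChange L ι := IsLocalizedModule.isBaseChange (Submonoid.powers g) L ι
  have h1 : IsBaseChange CL (((TensorProduct.mk L CL M) 1).restrictScalars SA ∘ₗ ι) :=
    hι.comp (TensorProduct.isBaseChange L M CL)
  have h2 : IsBaseChange CL (((TensorProduct.mk C CL (C ⊗[SA] NA)) 1).restrictScalars SA ∘ₗ
      TensorProduct.mk SA C NA 1) :=
    (TensorProduct.isBaseChange SA NA C).comp (TensorProduct.isBaseChange C (C ⊗[SA] NA) CL)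
  haveI : Module.FinitePresentation CL (CL ⊗[L] M) :=
    Module.FinitePresentation.of_equiv (R := CL) (M := CL ⊗[C] (C ⊗[SA] NA)) (N := CL ⊗[L] M)
      (h2.equiv.symm.trans h1.equiv)
  exact FlatCrit65.finitePresentation_of_faithfullyFlat CL M

end Groth.Agent.FlatCrit65.Dev
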