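import Groth.Agent.FlatCrit65.Dev.Recursion
import Groth.Agent.RG29.DevCover
import Groth.Agent.RG29.FlatTransfer
import Mathlib

/-!
Étale localization of a module flat at a point: after an étale neighbourhood of the base and an étale
neighbourhood upstairs the module is free over the local base and finitely presented.
-/

set_option autoImplicit false
set_option linter.style.haveILetI false

universe u

open TensorProduct

namespace Groth.Agent.FlatCrit65.Dev

open RG29

theorem flatAt_congr {R S M : Type u} [CommRing R] [CommRing S] [Algebra R S] [AddCommGroup M] [Module S M]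
    [Module R M] [IsScalarTower R S M] {q q' : Ideal S} [q.IsPrime] [q'.IsPrime] (h : q = q')
    (hflat : FlatCA.FlatAt R q M) : FlatCA.FlatAt R q' M := by
  subst h
  exact hflat

/-- A pair of étale neighbourhoods over which the module is free at every local ring of the base. -/
structure PtChart (R S : Type u) [CommRing R] [CommRing S] [Algebra R S] (N : Type u) [AddCommGroup N] [Module S N]
    (p : Ideal R) [p.IsPrime] (q : Ideal S) [q.IsPrime] : Type (u + 1) where
  R' : Type u
  S' : Type u
  [cR : CommRing R']
  [cS : CommRing S']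
  [aR : Algebra R R']
  [aS : Algebra S S']
  [aRS : Algebra R' S']
  [aS0 : Algebra R S']
  [t1 : IsScalarTower R R' S']
  [t2 : IsScalarTower R S S']
  pR : Ideal R'
  qS : Ideal S'
  [pRp : pR.IsPrime]
  [qSp : qS.IsPrime]
  [qover : qS.LiesOver pR]
  nhdR : FlatCA.IsEtaleNhd R R' p pR
  nhdS : FlatCA.IsEtaleNhd S S' q qS
  loc : ∀ (A : Type u) [CommRing A] [IsLocalRing A] [Algebra R' A],
    (IsLocalRing.maximalIdeal A).comap (algebraMap R' A) = pR →
    ∀ (S'' : Type u) [CommRing S''] [Algebra S' S''] [Algebra A S''] [Algebra R' S''] [IsScalarTower R' A S'']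
    [IsScalarTower R' S' S''] [Algebra.IsPushout R' S' A S''] (N'' : Type u) [AddCommGroup N''] [Module S'' N'']
    [Module S' N''] [IsScalarTower S' S'' N''] [Module A N''] [IsScalarTower A S'' N'']
    (i : S' ⊗[S] N →ₗ[S'] N''), IsBaseChange S'' i →
    (∀ Q : PrimeSpectrum S'', Q.asIdeal.comap (algebraMap A S'') = IsLocalRing.maximalIdeal A →
      Q.asIdeal.comap (algebraMap S' S'') = qS → FlatCA.FlatAt A Q.asIdeal N'') →
    Module.Free A N'' ∧ Module.FinitePresentation S'' N'' ∧
      NoTorsionOff A N'' {Q | Q.asIdeal.comap (algebraMap A S'') = IsLocalRing.maximalIdeal A ∧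
        Q.asIdeal.comap (algebraMap S' S'') = qS}

attribute [instance] PtChart.cR PtChart.cS PtChart.aR PtChart.aS PtChart.aRS PtChart.aS0 PtChart.t1 PtChart.t2
  PtChart.pRp PtChart.qSp PtChart.qover

/-- Charts exist at every point. -/
theorem exists_ptChart {R S : Type u} [CommRing R] [CommRing S] [Algebra R S] [Algebra.FiniteType R S] (N : Type u)
    [AddCommGroup N] [Module S N] [Module.Finite S N] (p : Ideal R) [p.IsPrime] (q : Ideal S) [hq : q.IsPrime]
    [q.LiesOver p] : Nonempty (PtChart R S N p q) := by
  by_cases h : (⟨q, hq⟩ : PrimeSpectrum S) ∈ Module.support S N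
  · obtain ⟨x, hxq, hxc⟩ := exists_fiber_point p q
    have hx : x ∈ Module.support (p.Fiber S) (FlatCA.fiberMod p S N) := by
      refine (mem_support_fiberMod_iff p N x).2 ?_
      convert h using 2
      exact hxc
    obtain ⟨R', S', _, _, _, _, _, _, _, _, p', q', _, _, hnR, hnS, hqp, hdev⟩ :=
      exists_hasCompleteDevissageAt N p q ⟨x, hx, hxq⟩
    haveI := hqp
    exact ⟨{ R' := R', S' := S', pR := p', qS := q', nhdR := hnR, nhdS := hnS,
             loc := fun A _ _ _ hA S'' _ _ _ _ _ _ _ N'' _ _ _ _ _ _ i hi hflat => by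
               obtain ⟨h1, h2, h3⟩ :=
                 free_of_completeDevissageAt hA (hdev _ _ (TensorProduct.isBaseChange S N S')) S'' N'' i hi hflat
               refine ⟨h1, h2, fun X _ _ J hJ => h3 X J fun Q hQ => hJ Q ⟨hQ.1, ?_⟩⟩
               simpa using congrArg PrimeSpectrum.asIdeal (Set.mem_singleton_iff.1 hQ.2) }⟩
  · obtain ⟨a, ha, hkill⟩ := exists_smul_eq_zero_of_notMem_support N ⟨q, hq⟩ h
    let S' := Localization.Away a
    haveI : Subsingleton (S' ⊗[S] N) := ⟨fun u v => by
      suffices h0 : ∀ z : S' ⊗[S] N, z = 0 from (h0 u).trans (h0 v).symm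
      intro z
      have hu : IsUnit (algebraMap S S' a) := IsLocalization.Away.algebraMap_isUnit a
      have h0 : algebraMap S S' a • z = 0 := by
        induction z using TensorProduct.induction_on with
        | zero => exact smul_zero _
        | tmul s n => rw [algebraMap_smul, ← TensorProduct.tmul_smul, hkill, TensorProduct.tmul_zero]
        | add u v hu hv => rw [smul_add, hu, hv, add_zero]
      exact hu.smul_eq_zero.1 h0⟩
    have hdisj : Disjoint (Submonoid.powers a : Set S) (q : Set S) :=
      (Ideal.disjoint_powers_iff_notMem_of_isPrime _).2 ha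
    let q' := q.map (algebraMap S S')
    haveI : q'.IsPrime := IsLocalization.isPrime_of_isPrime_disjoint (Submonoid.powers a) S' q hq hdisj
    have hqq : q'.comap (algebraMap S S') = q :=
      IsLocalization.under_map_of_isPrime_disjoint (Submonoid.powers a) S' hq hdisj
    haveI : q'.LiesOver q := ⟨hqq.symm⟩
    haveI : q'.LiesOver p := Ideal.LiesOver.trans q' q p
    exact ⟨{ R' := R, S' := S', pR := p, qS := q', nhdR := isEtaleNhd_refl p,
             nhdS := ⟨Algebra.Etale.of_isLocalizationAway a, inferInstance, bijective_mapₐ_of_quot q q' fun t => by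
               obtain ⟨⟨c, d⟩, hcd⟩ := IsLocalization.surj (Submonoid.powers a) t
               refine ⟨c, d, fun hd => ?_, by rw [hcd, sub_self]; exact q'.zero_mem⟩
               obtain ⟨n, hn⟩ := d.2
               exact ha (hq.mem_of_pow_mem n (by rw [show a ^ n = (d : S) from hn]; exact hd))⟩
             loc := fun A _ _ _ hA S'' _ _ _ _ _ _ _ N'' _ _ _ _ _ _ i hi _ => by
               haveI : Subsingleton N'' := hi.equiv.symm.toEquiv.subsingleton
               exact ⟨inferInstance, inferInstance, noTorsionOff_of_subsingleton A N'' _⟩ }⟩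

/-- The residue field of the local ring at a prime is that of the prime. -/
theorem bijective_mapₐ_localization {R' : Type u} [CommRing R'] (P : Ideal R') [P.IsPrime] :
    haveI : (IsLocalRing.maximalIdeal (Localization.AtPrime P)).LiesOver P :=
      ⟨(Localization.AtPrime.under_maximalIdeal).symm⟩
    Function.Bijective (Ideal.ResidueField.mapₐ P (IsLocalRing.maximalIdeal (Localization.AtPrime P))
      (Algebra.ofId R' (Localization.AtPrime P)) (Ideal.over_def _ P)) := by
  haveI : (IsLocalRing.maximalIdeal (Localization.AtPrime P)).LiesOver P :=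
    ⟨(Localization.AtPrime.under_maximalIdeal).symm⟩
  refine bijective_mapₐ_of_quot P _ fun t => ?_
  obtain ⟨⟨c, d⟩, hcd⟩ := IsLocalization.surj P.primeCompl t
  exact ⟨c, d, d.2, by rw [hcd, sub_self]; exact Submodule.zero_mem _⟩

set_option maxHeartbeats 1000000 in
/-- The algebra upstairs over a model of the base change. -/
theorem PtChart.exists_algebra {R S : Type u} [CommRing R] [CommRing S] [Algebra R S] {N : Type u} [AddCommGroup N]
    [Module S N] [Module R N] [IsScalarTower R S N] {p : Ideal R} [p.IsPrime] {q : Ideal S} [q.IsPrime]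
    (T : PtChart R S N p q) (hflat : FlatCA.FlatAt R q N)
    (A : Type u) [CommRing A] [IsLocalRing A] [Algebra R A] [Algebra T.R' A] [IsScalarTower R T.R' A]
    [hAo : (IsLocalRing.maximalIdeal A).LiesOver T.pR]
    (hres : Function.Bijective (Ideal.ResidueField.mapₐ T.pR (IsLocalRing.maximalIdeal A) (Algebra.ofId T.R' A) hAo.over))
    (SA NA : Type u) [CommRing SA] [Algebra R SA] [Algebra S SA] [Algebra A SA]
    [IsScalarTower R S SA] [IsScalarTower R A SA] [Algebra.IsPushout R S A SA]
    [AddCommGroup NA] [Module SA NA] [Module S NA] [IsScalarTower S SA NA]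
    (f : N →ₗ[S] NA) (hf : IsBaseChange SA f) :
    ∃ (C : Type u) (_ : CommRing C) (_ : Algebra SA C) (_ : Algebra A C) (_ : IsScalarTower A SA C)
      (_ : Algebra S C) (_ : IsScalarTower S SA C) (x' : Ideal C) (_ : x'.IsPrime) (hx : x'.LiesOver q),
      x'.LiesOver (IsLocalRing.maximalIdeal A) ∧ Algebra.Etale SA C ∧
      (Algebra.FinitePresentation R S → Algebra.FinitePresentation A C) ∧
      Function.Bijective (Ideal.ResidueField.mapₐ q x' (Algebra.ofId S C) hx.over) ∧
      Module.FinitePresentation C (C ⊗[SA] NA) ∧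
      Module.Free A (RestrictScalars A C (C ⊗[SA] NA)) := by
  classical
  obtain ⟨hetR, hoR, hbR⟩ := T.nhdR
  obtain ⟨hetS, hoS, hbS⟩ := T.nhdS
  haveI := hetR; haveI := hoR; haveI := hetS; haveI := hoS
  let m := IsLocalRing.maximalIdeal A
  -- the middle ring
  let SR := T.R' ⊗[R] S
  letI aSSR : Algebra S SR := Algebra.TensorProduct.rightAlgebra
  haveI : IsScalarTower R S SR := IsScalarTower.of_algebraMap_eq (R := R) (S := S) (A := SR) fun r =>
    ((Algebra.TensorProduct.includeRight : S →ₐ[R] SR).commutes r).symm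
  haveI pSR : Algebra.IsPushout R S T.R' SR := TensorProduct.isPushout'
  haveI : Algebra.Etale S SR := RingHom.etale_algebraMap.1 (etale_includeRight R T.R' S)
  let ψ : SR →ₐ[T.R'] T.S' := Algebra.TensorProduct.lift (Algebra.ofId T.R' T.S') (IsScalarTower.toAlgHom R S T.S')
    fun _ _ => .all _ _
  letI aSR' : Algebra SR T.S' := ψ.toRingHom.toAlgebra
  haveI : IsScalarTower T.R' SR T.S' := IsScalarTower.of_algHom ψ
  haveI : IsScalarTower S SR T.S' := IsScalarTower.of_algebraMap_eq fun s => by
    show _ = ψ ((1 : T.R') ⊗ₜ s)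
    rw [Algebra.TensorProduct.lift_tmul, map_one, one_mul]
    rfl
  haveI : Algebra.Etale SR T.S' := Algebra.Etale.of_restrictScalars (R := S) (A := SR) (B := T.S')
  letI aR'SA : Algebra T.R' SA := Algebra.compHom SA (algebraMap T.R' A)
  haveI : IsScalarTower T.R' A SA := IsScalarTower.of_algebraMap_eq (R := T.R') (S := A) (A := SA) fun _ => rfl
  haveI : IsScalarTower R T.R' SA := IsScalarTower.of_algebraMap_eq (R := R) (S := T.R') (A := SA) fun r => by
    rw [IsScalarTower.algebraMap_apply R A SA, IsScalarTower.algebraMap_apply R T.R' A,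
      ← IsScalarTower.algebraMap_apply T.R' A SA]
  let χ : SR →ₐ[T.R'] SA := Algebra.TensorProduct.lift (Algebra.ofId T.R' SA) (IsScalarTower.toAlgHom R S SA)
    fun _ _ => .all _ _
  letI aSRA : Algebra SR SA := χ.toRingHom.toAlgebra
  haveI : IsScalarTower T.R' SR SA := IsScalarTower.of_algHom χ
  haveI : IsScalarTower S SR SA := IsScalarTower.of_algebraMap_eq fun s => by
    show _ = χ ((1 : T.R') ⊗ₜ s)
    rw [Algebra.TensorProduct.lift_tmul, map_one, one_mul]
    rfl
  haveI : Algebra.IsPushout R T.R' S SR := Algebra.IsPushout.symm pSR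
  haveI : IsScalarTower R SR SA := IsScalarTower.of_algebraMap_eq (R := R) (S := SR) (A := SA) fun r => by
    rw [IsScalarTower.algebraMap_apply R S SA, IsScalarTower.algebraMap_apply R S SR,
      ← IsScalarTower.algebraMap_apply S SR SA]
  haveI pA : Algebra.IsPushout T.R' A SR SA :=
    (Algebra.IsPushout.comp_iff R T.R' S SR (T := A) (T' := SA)).1 (Algebra.IsPushout.symm inferInstance)
  -- the top ring
  let C := SA ⊗[SR] T.S'
  letI aS'C : Algebra T.S' C := Algebra.TensorProduct.rightAlgebra
  haveI : IsScalarTower SR T.S' C := IsScalarTower.of_algebraMap_eq (R := SR) (S := T.S') (A := C) fun r =>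
    ((Algebra.TensorProduct.includeRight : T.S' →ₐ[SR] C).commutes r).symm
  haveI pC : Algebra.IsPushout SR SA T.S' C := TensorProduct.isPushout
  haveI : Algebra.Etale SA C := inferInstance
  haveI : IsScalarTower A SA C := IsScalarTower.of_algebraMap_eq (R := A) (S := SA) (A := C) fun _ => rfl
  haveI : IsScalarTower T.R' A C := IsScalarTower.of_algebraMap_eq (R := T.R') (S := A) (A := C) fun r => by
    show algebraMap SA C (algebraMap T.R' SA r) = algebraMap SA C (algebraMap A SA (algebraMap T.R' A r))
    rw [← IsScalarTower.algebraMap_apply T.R' A SA]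
  haveI : IsScalarTower T.R' SA C := IsScalarTower.of_algebraMap_eq (R := T.R') (S := SA) (A := C) fun r => by
    rw [IsScalarTower.algebraMap_apply T.R' A SA, ← IsScalarTower.algebraMap_apply A SA C,
      ← IsScalarTower.algebraMap_apply T.R' A C]
  haveI : IsScalarTower T.R' SR C := IsScalarTower.of_algebraMap_eq (R := T.R') (S := SR) (A := C) fun r => by
    rw [IsScalarTower.algebraMap_apply SR SA C, ← IsScalarTower.algebraMap_apply T.R' SR SA,
      ← IsScalarTower.algebraMap_apply T.R' SA C]
  haveI : IsScalarTower T.R' T.S' C := IsScalarTower.of_algebraMap_eq (R := T.R') (S := T.S') (A := C) fun r => by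
    rw [IsScalarTower.algebraMap_apply T.R' SR T.S', ← IsScalarTower.algebraMap_apply SR T.S' C,
      ← IsScalarTower.algebraMap_apply T.R' SR C]
  haveI : Algebra.IsPushout T.R' SR A SA := Algebra.IsPushout.symm pA
  haveI pTop : Algebra.IsPushout T.R' T.S' A C :=
    (Algebra.IsPushout.comp_iff T.R' SR A SA (T := T.S') (T' := C)).2 (Algebra.IsPushout.symm pC)
  haveI : IsScalarTower S SA C := IsScalarTower.of_algebraMap_eq (R := S) (S := SA) (A := C) fun _ => rfl
  haveI : IsScalarTower S SR C := IsScalarTower.of_algebraMap_eq (R := S) (S := SR) (A := C) fun s => by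
    rw [IsScalarTower.algebraMap_apply SR SA C, ← IsScalarTower.algebraMap_apply S SR SA,
      ← IsScalarTower.algebraMap_apply S SA C]
  haveI : IsScalarTower S T.S' C := IsScalarTower.of_algebraMap_eq (R := S) (S := T.S') (A := C) fun s => by
    rw [IsScalarTower.algebraMap_apply S SR T.S', ← IsScalarTower.algebraMap_apply SR T.S' C,
      ← IsScalarTower.algebraMap_apply S SR C]
  -- the module
  haveI : SMulCommClass SA T.S' C := ⟨fun c d v => by rw [Algebra.smul_def c, Algebra.smul_def c, mul_smul_comm]⟩
  haveI : SMulCommClass SA A C := ⟨fun c d v => by rw [Algebra.smul_def c, Algebra.smul_def c, mul_smul_comm]⟩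
  haveI : SMulCommClass SA S C := ⟨fun c d v => by rw [Algebra.smul_def c, Algebra.smul_def c, mul_smul_comm]⟩
  let Nc := C ⊗[SA] NA
  let g : NA →ₗ[SA] Nc := TensorProduct.mk SA C NA 1
  have hg : IsBaseChange C g := TensorProduct.isBaseChange SA NA C
  have hgN : IsBaseChange C ((g.restrictScalars S).comp f) := hf.comp hg
  let i : T.S' ⊗[S] N →ₗ[T.S'] Nc := (TensorProduct.isBaseChange S N T.S').lift ((g.restrictScalars S).comp f)
  have hi : IsBaseChange C i := by
    refine IsBaseChange.of_comp (TensorProduct.isBaseChange S N T.S') ?_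
    rwa [IsBaseChange.lift_comp]
  -- flatness at the points
  letI mANA : Module A NA := Module.compHom NA (algebraMap A SA)
  haveI : IsScalarTower A SA NA := IsScalarTower.of_algebraMap_smul fun _ _ => rfl
  have hA : m.comap (algebraMap T.R' A) = T.pR := hAo.over.symm
  obtain ⟨hfree, hfp, -⟩ := T.loc A hA C Nc i hi fun Q hQ hQq => by
    let Q₁ := Q.asIdeal.comap (algebraMap SA C)
    have hQ₁ : Q₁.comap (algebraMap S SA) = q := by
      show (Q.asIdeal.comap (algebraMap SA C)).comap (algebraMap S SA) = q
      rw [Ideal.comap_comap, ← IsScalarTower.algebraMap_eq, IsScalarTower.algebraMap_eq S T.S' C,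
        ← Ideal.comap_comap, hQq]
      exact hoS.over.symm
    have h1 : FlatCA.FlatAt A Q₁ NA := by
      haveI : (Q₁.comap (algebraMap S SA)).IsPrime := inferInstance
      exact FlatMor67.FlatAtBC.flatAt_baseChange (R := R) (S := S) (R' := A) (S' := SA) f hf Q₁
        (flatAt_congr hQ₁.symm hflat)
    exact RG29.flat_localized_baseChange (R := A) (S := SA) (S' := C) hg Q₁.primeCompl Q.asIdeal.primeCompl
      (fun t ht => ht) h1
  -- the point
  obtain ⟨X, hX1, hX2⟩ := exists_prime_pushout (R := T.R') (S := T.S') (R' := A) (S' := C) T.qS m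
    ((Ideal.over_def T.qS T.pR).symm.trans hA.symm)
  haveI : X.asIdeal.LiesOver T.qS := ⟨hX1.symm⟩
  haveI : X.asIdeal.LiesOver m := ⟨hX2.symm⟩
  haveI hXq : X.asIdeal.LiesOver q := Ideal.LiesOver.trans X.asIdeal T.qS q
  refine ⟨C, inferInstance, inferInstance, inferInstance, inferInstance, inferInstance, inferInstance, X.asIdeal,
    inferInstance, hXq, inferInstance, inferInstance, fun hfpS => ?_, ?_, hfp, ?_⟩
  · haveI := hfpS
    haveI : Algebra.FinitePresentation R T.S' := Algebra.FinitePresentation.trans R S T.S'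
    haveI : Algebra.FinitePresentation T.R' T.S' :=
      Algebra.FinitePresentation.of_restrict_scalars_finitePresentation R T.R' T.S'
    haveI : Algebra.IsPushout T.R' A T.S' C := Algebra.IsPushout.symm pTop
    exact Algebra.FinitePresentation.equiv (Algebra.IsPushout.equiv T.R' A T.S' C)
  · exact bijective_mapₐ_trans q T.qS X.asIdeal hbS
      (pushout_bijective_mapₐ (R := T.R') (S := T.S') (R' := A) (S' := C) (p := T.pR) (p' := m) hres T.qS X.asIdeal)
  · haveI := hfree
    exact Module.Free.of_equiv
      ({ (RestrictScalars.addEquiv A C Nc).symm with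
         map_smul' := fun a x => by
           apply (RestrictScalars.addEquiv A C Nc).injective
           simp [RestrictScalars.addEquiv_map_smul] } : Nc ≃ₗ[A] RestrictScalars A C Nc)

end Groth.Agent.FlatCrit65.Dev
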