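import Groth.Agent.FlatCrit65.Dev.NearPoint
import Mathlib

/-!
Reduction of finite type algebras to polynomial algebras.
-/

set_option autoImplicit false
set_option linter.style.haveILetI false

universe u

open TensorProduct

namespace Groth.Agent.FlatCrit65.Dev

/-- A finite type algebra is a quotient of a finitely presented one, with everything compatible. -/
theorem exists_fp_cover (R S : Type u) [CommRing R] [CommRing S] [Algebra R S] [Algebra.FiniteType R S]
    (N : Type u) [AddCommGroup N] [Module S N] [Module.Finite S N] :
    ∃ (P : Type u) (_ : CommRing P) (_ : Algebra R P) (_ : Algebra P S) (_ : IsScalarTower R P S)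
      (_ : Module P N) (_ : IsScalarTower P S N),
      Algebra.FinitePresentation R P ∧ Function.Surjective (algebraMap P S) ∧ Module.Finite P N := by
  obtain ⟨n, φ, hφ⟩ := Algebra.FiniteType.iff_quotient_mvPolynomial''.mp ‹Algebra.FiniteType R S›
  let P := MvPolynomial (Fin n) R
  letI : Algebra P S := φ.toRingHom.toAlgebra
  haveI : IsScalarTower R P S := IsScalarTower.of_algHom φ
  letI : Module P N := Module.compHom N φ.toRingHom
  haveI : IsScalarTower P S N := IsScalarTower.of_algebraMap_smul fun _ _ => rfl
  haveI : Module.Finite P S := Module.Finite.of_surjective (Algebra.linearMap P S) hφ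
  exact ⟨P, inferInstance, inferInstance, inferInstance, inferInstance, inferInstance, inferInstance,
    inferInstance, hφ, Module.Finite.trans S N⟩

variable {R P S : Type u} [CommRing R] [CommRing P] [CommRing S] [Algebra R P] [Algebra R S] [Algebra P S]
  [IsScalarTower R P S] (A SA : Type u) [CommRing A] [CommRing SA] [Algebra R A] [Algebra R SA] [Algebra S SA]
  [Algebra A SA] [IsScalarTower R S SA] [IsScalarTower R A SA] [Algebra.IsPushout R S A SA]

/-- The base change of the cover. -/
theorem exists_cover_baseChange (hsurj : Function.Surjective (algebraMap P S)) :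
    ∃ (PA : Type u) (_ : CommRing PA) (_ : Algebra R PA) (_ : Algebra P PA) (_ : Algebra A PA) (_ : Algebra PA SA)
      (_ : Algebra P SA) (_ : IsScalarTower R P PA) (_ : IsScalarTower R A PA) (_ : IsScalarTower A PA SA)
      (_ : IsScalarTower P PA SA) (_ : IsScalarTower P S SA),
      Algebra.IsPushout R P A PA ∧ Algebra.IsPushout P PA S SA ∧ Function.Surjective (algebraMap PA SA) := by
  let PA := A ⊗[R] P
  letI : Algebra P PA := Algebra.TensorProduct.rightAlgebra
  haveI : IsScalarTower R P PA := IsScalarTower.of_algebraMap_eq (R := R) (S := P) (A := PA) fun r =>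
    ((Algebra.TensorProduct.includeRight : P →ₐ[R] PA).commutes r).symm
  haveI pPA : Algebra.IsPushout R P A PA := TensorProduct.isPushout'
  letI aPSA : Algebra P SA := Algebra.compHom SA (algebraMap P S)
  haveI : IsScalarTower P S SA := IsScalarTower.of_algebraMap_eq (R := P) (S := S) (A := SA) fun _ => rfl
  haveI : IsScalarTower R P SA := IsScalarTower.of_algebraMap_eq (R := R) (S := P) (A := SA) fun r => by
    rw [IsScalarTower.algebraMap_apply P S SA, ← IsScalarTower.algebraMap_apply R P S,
      ← IsScalarTower.algebraMap_apply R S SA]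
  let χ : PA →ₐ[A] SA := Algebra.TensorProduct.lift (Algebra.ofId A SA) (IsScalarTower.toAlgHom R P SA)
    fun _ _ => .all _ _
  letI : Algebra PA SA := χ.toRingHom.toAlgebra
  haveI : IsScalarTower A PA SA := IsScalarTower.of_algHom χ
  haveI : IsScalarTower P PA SA := IsScalarTower.of_algebraMap_eq fun x => by
    show _ = χ ((1 : A) ⊗ₜ x)
    rw [Algebra.TensorProduct.lift_tmul, map_one, one_mul]
    rfl
  haveI : IsScalarTower R PA SA := IsScalarTower.of_algebraMap_eq (R := R) (S := PA) (A := SA) fun r => by
    rw [IsScalarTower.algebraMap_apply R P SA, IsScalarTower.algebraMap_apply R P PA,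
      ← IsScalarTower.algebraMap_apply P PA SA]
  haveI : Algebra.IsPushout P S PA SA :=
    (Algebra.IsPushout.comp_iff R P A PA (T := S) (T' := SA)).1 inferInstance
  refine ⟨PA, inferInstance, inferInstance, inferInstance, inferInstance, inferInstance, inferInstance,
    inferInstance, inferInstance, inferInstance, inferInstance, inferInstance, pPA, Algebra.IsPushout.symm inferInstance,
    fun c => ?_⟩
  obtain ⟨u, rfl⟩ := (Algebra.IsPushout.equiv P S PA SA).surjective c
  induction u using TensorProduct.induction_on with
  | zero => exact ⟨0, by simp⟩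
  | tmul s a =>
    obtain ⟨x, rfl⟩ := hsurj s
    refine ⟨algebraMap P PA x * a, ?_⟩
    rw [Algebra.IsPushout.equiv_tmul, map_mul, ← IsScalarTower.algebraMap_apply, ← IsScalarTower.algebraMap_apply]
  | add u v hu hv =>
    obtain ⟨a, ha⟩ := hu
    obtain ⟨b, hb⟩ := hv
    exact ⟨a + b, by rw [map_add, map_add, ha, hb]⟩

/-- A base change over the quotient is a base change over the cover. -/
theorem isBaseChange_cover {PA : Type u} [CommRing PA] [Algebra P PA] [Algebra PA SA] [Algebra P SA]
    [IsScalarTower P PA SA] [IsScalarTower P S SA] [Algebra.IsPushout P PA S SA]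
    {N NA : Type u} [AddCommGroup N] [Module S N] [Module P N] [IsScalarTower P S N]
    [AddCommGroup NA] [Module SA NA] [Module S NA] [IsScalarTower S SA NA] [Module PA NA] [IsScalarTower PA SA NA]
    [Module P NA] [IsScalarTower P PA NA] [IsScalarTower P S NA]
    (f : N →ₗ[S] NA) (hf : IsBaseChange SA f) : IsBaseChange PA (f.restrictScalars P) := by
  have h := RG29.isBaseChange_of_pushout (S := P) (S₂ := PA) (C := S) (C₂ := SA) N
  haveI : IsScalarTower PA SA (SA ⊗[S] N) := inferInstance
  refine IsBaseChange.of_equiv (h.equiv.trans (hf.equiv.restrictScalars PA)) fun x => ?_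
  simp [IsBaseChange.equiv_tmul]

/-- Flatness at the point of the cover. -/
theorem flatAt_cover (hsurj : Function.Surjective (algebraMap P S)) {N : Type u} [AddCommGroup N] [Module S N]
    [Module P N] [IsScalarTower P S N] [Module R N] [IsScalarTower R S N] [IsScalarTower R P N]
    (q : Ideal S) [q.IsPrime] (h : FlatCA.FlatAt R q N) : FlatCA.FlatAt R (q.comap (algebraMap P S)) N :=
  (RG29.flatAt_iff_of_algebra q (q.comap (algebraMap P S)) rfl fun J hJ =>
    RG29.exists_mem_of_surjective hsurj q J hJ).1 h

end Groth.Agent.FlatCrit65.Dev
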