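import Groth.Agent.FlatCrit65.Dev.EtaleLoc
import Groth.Agent.FlatCrit65.Assassin.InjModMax
import Groth.Agent.Hensel20.EssEtale
import Groth.Agent.ML3.BaseChange
import Groth.Agent.FlatMor67.MLDescent
import Mathlib

/-!
A finite flat module over an algebra essentially of finite type and local over a henselian base is
Mittag-Leffler.
-/

set_option autoImplicit false
set_option linter.style.haveILetI false

universe u

open TensorProduct

namespace Groth.Agent.FlatCrit65.Dev

/-- An étale neighbourhood of the closed point of a henselian local ring has a section. -/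
theorem exists_section_henselian {A R' : Type u} [CommRing A] [HenselianLocalRing A] [CommRing R'] [Algebra A R']
    {P : Ideal R'} [P.IsPrime] (h : FlatCA.IsEtaleNhd A R' (IsLocalRing.maximalIdeal A) P) :
    ∃ g : R' →ₐ[A] A, (IsLocalRing.maximalIdeal A).comap g.toRingHom = P := by
  obtain ⟨het, ho, hb⟩ := h
  haveI := het; haveI := ho
  let m := IsLocalRing.maximalIdeal A
  let e₁ := AlgEquiv.ofBijective (Ideal.ResidueField.mapₐ m P (Algebra.ofId A R') ho.over) hb
  let e₂ := AlgEquiv.ofBijective (IsScalarTower.toAlgHom A (A ⧸ m) m.ResidueField)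
    m.bijective_algebraMap_quotient_residueField
  let σ : R' →ₐ[A] IsLocalRing.ResidueField A :=
    e₂.symm.toAlgHom.comp (e₁.symm.toAlgHom.comp (IsScalarTower.toAlgHom A R' P.ResidueField))
  obtain ⟨g, hg, -⟩ := Henz21.existsUnique_lift σ
  refine ⟨g, ?_⟩
  ext x
  rw [Ideal.mem_comap, ← Ideal.algebraMap_residueField_eq_zero (I := P)]
  show g x ∈ m ↔ _
  rw [← IsLocalRing.residue_eq_zero_iff, show IsLocalRing.residue A (g x) = σ x from DFunLike.congr_fun hg x]
  show e₂.symm (e₁.symm (algebraMap R' P.ResidueField x)) = 0 ↔ _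
  rw [map_eq_zero_iff _ e₂.symm.injective, map_eq_zero_iff _ e₁.symm.injective]

/-- An element killed after a flat base change has annihilator generating the unit ideal there. -/
theorem one_mem_map_annihilator {S C W : Type u} [CommRing S] [CommRing C] [Algebra S C] [Module.Flat S C]
    [AddCommGroup W] [Module S W] (w : W) (hw : (1 : C) ⊗ₜ[S] w = 0) :
    (1 : C) ∈ Ideal.map (algebraMap S C) (LinearMap.ker (LinearMap.toSpanSingleton S W w)) := by
  let l := LinearMap.toSpanSingleton S W w
  obtain ⟨u, hu⟩ := (Module.Flat.lTensor_exact C (LinearMap.exact_subtype_ker_map l) ((1 : C) ⊗ₜ[S] (1 : S))).1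
    (by rw [LinearMap.lTensor_tmul, LinearMap.toSpanSingleton_apply, one_smul, hw])
  have hu' : TensorProduct.rid S C ((LinearMap.ker l).subtype.lTensor C u) = 1 := by
    rw [hu, TensorProduct.rid_tmul, one_smul]
  rw [← hu']
  clear hu hu'
  induction u using TensorProduct.induction_on with
  | zero => simp
  | tmul c k =>
    rw [LinearMap.lTensor_tmul, TensorProduct.rid_tmul, Algebra.smul_def]
    exact Ideal.mul_mem_right _ _ (Ideal.mem_map_of_mem _ k.2)
  | add a b ha hb => simpa only [map_add] using Ideal.add_mem _ ha hb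

section Localized

variable {A C M : Type u} [CommRing A] [CommRing C] [Algebra A C] [AddCommGroup M] [Module C M] [Module A M]
  [IsScalarTower A C M] (T : Submonoid C)

/-- A localization by elements acting universally injectively keeps the Mittag-Leffler property. -/
theorem ml_localized (hT : ∀ (X : Type u) [AddCommGroup X] [Module A X], ∀ s ∈ T, ∀ x : M ⊗[A] X, s • x = 0 → x = 0)
    (hM : CAlg.IsMittagLeffler A M) : CAlg.IsMittagLeffler A (LocalizedModule T M) := by
  intro ι Q _ _
  rw [injective_iff_map_eq_zero]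
  intro t ht
  let F : ∀ (X : Type u) [AddCommGroup X] [Module A X], M ⊗[A] X →ₗ[C] LocalizedModule T M ⊗[A] X :=
    fun X _ _ => AlgebraTensorModule.rTensor A X (LocalizedModule.mkLinearMap T M)
  haveI : ∀ (X : Type u) [AddCommGroup X] [Module A X], IsLocalizedModule T (F X) := fun X _ _ => inferInstance
  obtain ⟨⟨τ, s⟩, hs⟩ := IsLocalizedModule.surj T (F (∀ i, Q i)) t
  dsimp only at hs
  have hnat : ∀ w : M ⊗[A] (∀ i, Q i), ∀ i, TensorProduct.piRightHom A A _ Q (F (∀ i, Q i) w) i =
      F (Q i) (TensorProduct.piRightHom A A M Q w i) := fun w i => by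
    induction w using TensorProduct.induction_on with
    | zero => simp
    | tmul m q => simp [F]
    | add a b ha hb => simp [ha, hb]
  have hsmul : ∀ (c : C) (z : LocalizedModule T M ⊗[A] (∀ i, Q i)) (i : ι),
      TensorProduct.piRightHom A A _ Q (c • z) i = c • TensorProduct.piRightHom A A _ Q z i := fun c z i => by
    induction z using TensorProduct.induction_on with
    | zero => simp
    | tmul m q => simp [TensorProduct.smul_tmul']
    | add a b ha hb => simp [ha, hb]
  have hτ : τ = 0 := hM ι Q (by
    rw [map_zero]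
    funext i
    have h0 : F (Q i) (TensorProduct.piRightHom A A M Q τ i) = 0 := by
      rw [← hnat, ← hs, Submonoid.smul_def, hsmul, ht]
      exact smul_zero _
    obtain ⟨c, hc⟩ := (IsLocalizedModule.eq_zero_iff T (F (Q i))).1 h0
    exact hT (Q i) c c.2 _ hc)
  refine IsLocalizedModule.smul_injective (F (∀ i, Q i)) s ?_
  show s • t = s • (0 : LocalizedModule T M ⊗[A] (∀ i, Q i))
  rw [hs, hτ, map_zero, smul_zero]

end Localized

set_option maxHeartbeats 1600000 in
/-- The theorem for a finitely presented model over a finitely presented algebra. -/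
theorem ml_localized_of_flat {A S M N : Type u} [CommRing A] [HenselianLocalRing A] [CommRing S] [Algebra A S]
    [Algebra.FinitePresentation A S] [AddCommGroup M] [Module S M] [Module A M] [IsScalarTower A S M] [Module.Finite S M]
    (q : Ideal S) [q.IsPrime] [q.LiesOver (IsLocalRing.maximalIdeal A)] (hflat : FlatCA.FlatAt A q M)
    [AddCommGroup N] [Module S N] [Module A N] [IsScalarTower A S N] (f : M →ₗ[S] N) [IsLocalizedModule q.primeCompl f] :
    CAlg.IsMittagLeffler A N := by
  let m := IsLocalRing.maximalIdeal A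
  obtain ⟨T⟩ := exists_ptChart M m q
  obtain ⟨hetR, hoR, hbR⟩ := T.nhdR
  obtain ⟨hetS, hoS, hbS⟩ := T.nhdS
  haveI := hetR; haveI := hetS; haveI := hoR; haveI := hoS
  obtain ⟨g, hg⟩ := exists_section_henselian T.nhdR
  letI aR'A : Algebra T.R' A := g.toRingHom.toAlgebra
  haveI : IsScalarTower A T.R' A := IsScalarTower.of_algebraMap_eq fun a => (g.commutes a).symm
  haveI : Algebra.Etale T.R' A := Algebra.Etale.of_restrictScalars (R := A) (A := T.R') (B := A)
  haveI hm : m.LiesOver T.pR := ⟨hg.symm⟩
  have hres : Function.Bijective (Ideal.ResidueField.mapₐ T.pR m (Algebra.ofId T.R' A) hm.over) :=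
    RG29.bijective_mapₐ_of_quot T.pR m fun t => ⟨algebraMap A T.R' t, 1,
      fun h => (inferInstance : T.pR.IsPrime).ne_top (T.pR.eq_top_iff_one.2 h), by
        rw [map_one, mul_one, ← IsScalarTower.algebraMap_apply]
        simp⟩
  let C := A ⊗[T.R'] T.S'
  letI aS'C : Algebra T.S' C := Algebra.TensorProduct.rightAlgebra
  haveI : IsScalarTower T.R' T.S' C := IsScalarTower.of_algebraMap_eq (R := T.R') (S := T.S') (A := C) fun r =>
    ((Algebra.TensorProduct.includeRight : T.S' →ₐ[T.R'] C).commutes r).symm
  haveI pC : Algebra.IsPushout T.R' T.S' A C := TensorProduct.isPushout'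
  haveI : Algebra.Etale T.S' C := RingHom.etale_algebraMap.1 (RG29.etale_includeRight T.R' A T.S')
  letI aSC : Algebra S C := Algebra.compHom C (algebraMap S T.S')
  haveI : IsScalarTower S T.S' C := IsScalarTower.of_algebraMap_eq (R := S) (S := T.S') (A := C) fun _ => rfl
  haveI : Algebra.Etale S C := Algebra.Etale.comp S T.S' C
  haveI : IsScalarTower A S C := IsScalarTower.of_algebraMap_eq (R := A) (S := S) (A := C) fun a => by
    rw [IsScalarTower.algebraMap_apply S T.S' C, ← IsScalarTower.algebraMap_apply A S T.S',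
      IsScalarTower.algebraMap_apply A T.R' T.S', ← IsScalarTower.algebraMap_apply T.R' T.S' C,
      IsScalarTower.algebraMap_apply T.R' A C, ← IsScalarTower.algebraMap_apply A T.R' A]
    simp
  haveI : SMulCommClass S A C := ⟨fun c d v => by rw [Algebra.smul_def c, Algebra.smul_def c, mul_smul_comm]⟩
  haveI : SMulCommClass S T.S' C := ⟨fun c d v => by rw [Algebra.smul_def c, Algebra.smul_def c, mul_smul_comm]⟩
  let Nc := C ⊗[S] M
  let i : T.S' ⊗[S] M →ₗ[T.S'] Nc :=
    (TensorProduct.isBaseChange S M T.S').lift (TensorProduct.mk S C M 1)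
  have hi : IsBaseChange C i := by
    refine IsBaseChange.of_comp (TensorProduct.isBaseChange S M T.S') ?_
    rw [IsBaseChange.lift_comp]
    exact TensorProduct.isBaseChange S M C
  have hbc : IsBaseChange C ((TensorProduct.mk S C M) 1) := TensorProduct.isBaseChange S M C
  obtain ⟨hfree, -, htor⟩ := T.loc A hg C Nc i hi fun Q hQ hQq => by
    haveI : Q.asIdeal.LiesOver T.qS := ⟨hQq.symm⟩
    haveI : Q.asIdeal.LiesOver q := Ideal.LiesOver.trans Q.asIdeal T.qS q
    exact RG29.flat_localized_baseChange (R := A) hbc q.primeCompl Q.asIdeal.primeCompl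
      (fun t ht h => ht ((Ideal.over_def Q.asIdeal q).ge h)) hflat
  obtain ⟨X₀, hX1, hX2⟩ := exists_prime_pushout (R := T.R') (S := T.S') (R' := A) (S' := C) T.qS m
    ((Ideal.over_def T.qS T.pR).symm.trans hg.symm)
  haveI : X₀.asIdeal.LiesOver T.qS := ⟨hX1.symm⟩
  haveI : X₀.asIdeal.LiesOver m := ⟨hX2.symm⟩
  haveI : X₀.asIdeal.LiesOver q := Ideal.LiesOver.trans X₀.asIdeal T.qS q
  have hkill : ∀ (X : Type u) [AddCommGroup X] [Module A X], ∀ s ∈ X₀.asIdeal.primeCompl, ∀ x : Nc ⊗[A] X,
      s • x = 0 → x = 0 := fun X _ _ s hs x hx => htor X (Ideal.span {s}) (fun Q hQ hle => hs (by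
    obtain ⟨hQm, hQq⟩ := hQ
    haveI : Q.asIdeal.LiesOver m := ⟨hQm.symm⟩
    haveI : Q.asIdeal.LiesOver T.qS := ⟨hQq.symm⟩
    have := RG29.pushout_prime_le (R := T.R') (S := T.S') (R' := A) (S' := C) hres X₀.asIdeal Q.asIdeal
      (hX1.trans hQq.symm)
    rw [this]
    exact hle (Ideal.mem_span_singleton_self s))) x fun c hc => by
      obtain ⟨d, rfl⟩ := Ideal.mem_span_singleton'.1 hc
      rw [mul_smul, hx, smul_zero]
  haveI := hfree
  let L := LocalizedModule X₀.asIdeal.primeCompl Nc
  have hL : CAlg.IsMittagLeffler A L := ml_localized _ hkill (FlatMor67.ml_of_projective Nc)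
  let u₀ : M →ₗ[S] L :=
    ((LocalizedModule.mkLinearMap X₀.asIdeal.primeCompl Nc).restrictScalars S).comp (TensorProduct.mk S C M 1)
  have hu₀ : ∀ s : q.primeCompl, IsUnit (algebraMap S (Module.End S L) s) := fun s => by
    have hc : algebraMap S C s ∈ X₀.asIdeal.primeCompl := fun h => s.2 ((Ideal.over_def X₀.asIdeal q).ge h)
    refine (Module.End.isUnit_iff _).2 ?_
    have h2 := (Module.End.isUnit_iff _).1 (IsLocalizedModule.map_units (LocalizedModule.mkLinearMap
      X₀.asIdeal.primeCompl Nc) ⟨_, hc⟩)
    convert h2 using 1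
    funext v
    exact (algebraMap_smul C (s : S) v).symm
  let u := IsLocalizedModule.lift q.primeCompl f u₀ hu₀
  refine ML3.ml_of_univInj (u.restrictScalars A) (fun X _ _ => ?_) hL
  rw [injective_iff_map_eq_zero]
  intro z hz
  let FN : M ⊗[A] X →ₗ[S] N ⊗[A] X := AlgebraTensorModule.rTensor A X f
  haveI : IsLocalizedModule q.primeCompl FN := inferInstance
  obtain ⟨⟨w, s⟩, hw⟩ := IsLocalizedModule.surj q.primeCompl FN z
  dsimp only at hw
  let FL : Nc ⊗[A] X →ₗ[C] L ⊗[A] X := AlgebraTensorModule.rTensor A X (LocalizedModule.mkLinearMap X₀.asIdeal.primeCompl Nc)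
  haveI : IsLocalizedModule X₀.asIdeal.primeCompl FL := inferInstance
  let j : M ⊗[A] X →ₗ[S] Nc ⊗[A] X := AlgebraTensorModule.rTensor A X (TensorProduct.mk S C M 1)
  have hkey : ∀ v : M ⊗[A] X, (u.restrictScalars A).rTensor X (FN v) = FL (j v) := fun v => by
    induction v using TensorProduct.induction_on with
    | zero => simp
    | tmul a b => simp [FN, FL, j, u, u₀]; rfl
    | add a b ha hb => simp only [map_add, ha, hb]
  have hj : j w = 0 := by
    have h0 : FL (j w) = 0 := by
      rw [← hkey, ← hw]
      show AlgebraTensorModule.rTensor A X u ((s : S) • z) = 0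
      rw [map_smul, show AlgebraTensorModule.rTensor A X u z = 0 from hz, smul_zero]
    obtain ⟨c, hc⟩ := (IsLocalizedModule.eq_zero_iff X₀.asIdeal.primeCompl FL).1 h0
    exact hkill X c c.2 _ hc
  have h1w : (1 : C) ⊗ₜ[S] w = (0 : C ⊗[S] (M ⊗[A] X)) := by
    apply (AlgebraTensorModule.assoc A S C C M X).symm.injective
    rw [map_zero, ← hj]
    clear hw hz hj
    induction w using TensorProduct.induction_on with
    | zero => simp
    | tmul a b => simp [j]; rfl
    | add a b ha hb => simp only [tmul_add, map_add, ha, hb]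
  obtain ⟨t, ht, htq⟩ : ∃ t ∈ LinearMap.ker (LinearMap.toSpanSingleton S (M ⊗[A] X) w), t ∉ q := by
    by_contra hcon
    push Not at hcon
    refine X₀.isPrime.ne_top (X₀.asIdeal.eq_top_iff_one.2 (Ideal.map_le_iff_le_comap.2 (fun t ht => ?_)
      (one_mem_map_annihilator w h1w)))
    exact (Ideal.over_def X₀.asIdeal q).le (hcon t ht)
  have h0 : FN w = 0 := (IsLocalizedModule.eq_zero_iff q.primeCompl FN).2
    ⟨⟨t, htq⟩, by simpa [Submonoid.smul_def] using ht⟩
  refine IsLocalizedModule.smul_injective FN s ?_
  show s • z = s • (0 : N ⊗[A] X)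
  rw [hw, h0, smul_zero]

/-- A finite module over a local algebra essentially of finite type, flat over a henselian base, is
Mittag-Leffler. -/
theorem ml_of_henselian {A B : Type u} [CommRing A] [HenselianLocalRing A] [CommRing B] [IsLocalRing B] [Algebra A B]
    [IsLocalHom (algebraMap A B)] [Algebra.EssFiniteType A B]
    (N : Type u) [AddCommGroup N] [Module B N] [Module A N] [IsScalarTower A B N] [Module.Finite B N] [Module.Flat A N] :
    CAlg.IsMittagLeffler A N := by
  obtain ⟨ι, _, q, _, ω, hω, hqm⟩ := FlatCrit65.exists_poly_local_cover A B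
  let L := Localization.AtPrime q
  let S := MvPolynomial ι A
  have hqm' : q.comap (algebraMap A S) = IsLocalRing.maximalIdeal A :=
    hqm.trans (((IsLocalRing.local_hom_TFAE (algebraMap A B)).out 0 4).mp ‹_›)
  let _ : Algebra L B := ω.toRingHom.toAlgebra
  have : IsScalarTower A L B := IsScalarTower.of_algebraMap_eq fun a => (ω.commutes a).symm
  let _ : Module L N := Module.compHom N (algebraMap L B)
  have : IsScalarTower L B N := IsScalarTower.of_algebraMap_smul fun _ _ => rfl
  have : IsScalarTower A L N := IsScalarTower.of_algebraMap_smul fun a n => by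
    show algebraMap L B (algebraMap A L a) • n = a • n
    rw [← IsScalarTower.algebraMap_apply, algebraMap_smul]
  have : Module.Finite L B := Module.Finite.of_surjective (Algebra.linearMap L B) hω
  have : Module.Finite L N := Module.Finite.trans B N
  have hfpL : Module.FinitePresentation L N := FlatCrit65.finitePresentation_of_flat_local (R := A) (S := S) q
  let _ : Module S N := Module.compHom N (algebraMap S L)
  have : IsScalarTower S L N := IsScalarTower.of_algebraMap_smul fun _ _ => rfl
  have : IsScalarTower A S N := IsScalarTower.of_algebraMap_smul fun a n => by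
    show algebraMap S L (algebraMap A S a) • n = a • n
    rw [← IsScalarTower.algebraMap_apply, algebraMap_smul]
  obtain ⟨M₀, _, _, f, hfp, hf⟩ := FlatCrit65.exists_fp_model q.primeCompl L N
  let _ : Module A M₀ := Module.compHom M₀ (algebraMap A S)
  have : IsScalarTower A S M₀ := IsScalarTower.of_algebraMap_smul fun _ _ => rfl
  haveI : q.LiesOver (IsLocalRing.maximalIdeal A) := ⟨hqm'.symm⟩
  have hflat : FlatCA.FlatAt A q M₀ :=
    Module.Flat.of_linearEquiv ((IsLocalizedModule.iso q.primeCompl f).restrictScalars A)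
  exact ml_localized_of_flat q hflat f

end Groth.Agent.FlatCrit65.Dev
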