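import Groth.Agent.FlatCrit65.Dev.EtaleLoc
import Groth.Agent.FlatCrit65.Dev.Descent
import Mathlib

/-!
Flatness and finite presentation near the point over the local ring of an étale neighbourhood.
-/

set_option autoImplicit false
set_option linter.style.haveILetI false

universe u

open TensorProduct

namespace Groth.Agent.FlatCrit65.Dev

/-- The local ring of an étale neighbourhood has the residue field of the point. -/
theorem bijective_mapₐ_nhd {R R' : Type u} [CommRing R] [CommRing R'] [Algebra R R'] {p : Ideal R} [p.IsPrime]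
    {p' : Ideal R'} [p'.IsPrime] (h : FlatCA.IsEtaleNhd R R' p p') :
    ∃ hm : (IsLocalRing.maximalIdeal (Localization.AtPrime p')).LiesOver p,
      Function.Bijective (Ideal.ResidueField.mapₐ p (IsLocalRing.maximalIdeal (Localization.AtPrime p'))
        (Algebra.ofId R (Localization.AtPrime p')) hm.over) := by
  obtain ⟨-, ho, hb⟩ := h
  haveI := ho
  haveI : (IsLocalRing.maximalIdeal (Localization.AtPrime p')).LiesOver p' :=
    ⟨(Localization.AtPrime.under_maximalIdeal).symm⟩
  haveI hm : (IsLocalRing.maximalIdeal (Localization.AtPrime p')).LiesOver p := Ideal.LiesOver.trans _ p' p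
  exact ⟨hm, RG29.bijective_mapₐ_trans p p' _ hb (bijective_mapₐ_localization p')⟩

/-- In the base change to the local ring there is one prime over the point and the closed point. -/
theorem eq_of_liesOver {R R' S SA : Type u} [CommRing R] [CommRing R'] [CommRing S] [CommRing SA] [Algebra R R']
    [Algebra R S] {p : Ideal R} [p.IsPrime] {p' : Ideal R'} [p'.IsPrime] (h : FlatCA.IsEtaleNhd R R' p p')
    [Algebra R SA] [Algebra S SA] [Algebra (Localization.AtPrime p') SA] [IsScalarTower R S SA]
    [IsScalarTower R (Localization.AtPrime p') SA] [Algebra.IsPushout R S (Localization.AtPrime p') SA]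
    (q : Ideal S) (Q₁ Q₂ : Ideal SA) [Q₁.IsPrime] [Q₂.IsPrime]
    [h₁ : Q₁.LiesOver q] [h₂ : Q₂.LiesOver q] [Q₁.LiesOver (IsLocalRing.maximalIdeal (Localization.AtPrime p'))]
    [Q₂.LiesOver (IsLocalRing.maximalIdeal (Localization.AtPrime p'))] : Q₁ = Q₂ := by
  obtain ⟨hm, hb⟩ := bijective_mapₐ_nhd h
  exact RG29.pushout_prime_le (R := R) (S := S) (R' := Localization.AtPrime p') (S' := SA) hb Q₁ Q₂
    (h₁.over.symm.trans h₂.over)

/-- Near a flat point the module is finitely presented and flat over the local ring. -/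
theorem PtChart.exists_nhd {R S : Type u} [CommRing R] [CommRing S] [Algebra R S] {N : Type u} [AddCommGroup N]
    [Module S N] [Module R N] [IsScalarTower R S N] {p : Ideal R} [p.IsPrime] {q : Ideal S} [q.IsPrime]
    (T : PtChart R S N p q) (hflat : FlatCA.FlatAt R q N)
    (SA NA : Type u) [CommRing SA] [Algebra R SA] [Algebra S SA] [Algebra (Localization.AtPrime T.pR) SA]
    [IsScalarTower R S SA] [IsScalarTower R (Localization.AtPrime T.pR) SA]
    [Algebra.IsPushout R S (Localization.AtPrime T.pR) SA]
    [AddCommGroup NA] [Module SA NA] [Module S NA] [IsScalarTower S SA NA]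
    [Module (Localization.AtPrime T.pR) NA] [IsScalarTower (Localization.AtPrime T.pR) SA NA]
    (f : N →ₗ[S] NA) (hf : IsBaseChange SA f) :
    ∃ g : SA, (∀ (Q : Ideal SA) [Q.IsPrime], Q.LiesOver q →
        Q.LiesOver (IsLocalRing.maximalIdeal (Localization.AtPrime T.pR)) → g ∉ Q) ∧
      Module.FinitePresentation (Localization.Away g) (LocalizedModule (Submonoid.powers g) NA) ∧
      Module.Flat (Localization.AtPrime T.pR) (LocalizedModule (Submonoid.powers g) NA) := by
  haveI : (IsLocalRing.maximalIdeal (Localization.AtPrime T.pR)).LiesOver T.pR :=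
    ⟨(Localization.AtPrime.under_maximalIdeal).symm⟩
  obtain ⟨C, _, _, _, _, _, _, x', _, hx, hxm, het, -, -, hN, hfree⟩ :=
    T.exists_algebra hflat (Localization.AtPrime T.pR) (bijective_mapₐ_localization T.pR) SA NA f hf
  obtain ⟨g, hgx, hg⟩ := exists_basicOpen_subset_range (SA := SA) x'
  haveI := hfree
  refine ⟨g, fun Q _ hQq hQm hmem => hgx ?_, finitePresentation_powers_of_range (C := C) NA g hg,
    flat_powers_of_range (C := C) NA g hg⟩
  haveI := hx; haveI := hxm; haveI := hQq; haveI := hQm
  haveI : (x'.comap (algebraMap SA C)).LiesOver q :=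
    ⟨(Ideal.over_def x' q).trans (Ideal.under_under (A := S) (B := SA) x').symm⟩
  haveI : (x'.comap (algebraMap SA C)).LiesOver (IsLocalRing.maximalIdeal (Localization.AtPrime T.pR)) :=
    ⟨(Ideal.over_def x' _).trans (Ideal.under_under (A := Localization.AtPrime T.pR) (B := SA) x').symm⟩
  rwa [eq_of_liesOver T.nhdR q (x'.comap (algebraMap SA C)) Q]

end Groth.Agent.FlatCrit65.Dev
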