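import Groth.Agent.FlatCrit65.Dev.FiniteType
import Mathlib

/-!
Flatness near the point after étale localization, finite type case; and the algebra version.
-/

set_option autoImplicit false
set_option linter.style.haveILetI false

universe u

open TensorProduct

namespace Groth.Agent.FlatCrit65.Dev

/-- The chart for the cover gives, over the local ring, a basic open for the base change. -/
theorem exists_nhd_finiteType {R S : Type u} [CommRing R] [CommRing S] [Algebra R S] [Algebra.FiniteType R S]
    (N : Type u) [AddCommGroup N] [Module S N] [Module R N] [IsScalarTower R S N] [Module.Finite S N]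
    (p : Ideal R) [p.IsPrime] (q : Ideal S) [q.IsPrime] [q.LiesOver p] (hflat : FlatCA.FlatAt R q N) :
    ∃ (R' : Type u) (_ : CommRing R') (_ : Algebra R R') (p' : Ideal R') (_ : p'.IsPrime), FlatCA.IsEtaleNhd R R' p p' ∧
      ∀ (SA NA : Type u) [CommRing SA] [Algebra R SA] [Algebra S SA] [Algebra (Localization.AtPrime p') SA]
        [IsScalarTower R S SA] [IsScalarTower R (Localization.AtPrime p') SA]
        [Algebra.IsPushout R S (Localization.AtPrime p') SA]
        [AddCommGroup NA] [Module SA NA] [Module S NA] [IsScalarTower S SA NA]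
        [Module (Localization.AtPrime p') NA] [IsScalarTower (Localization.AtPrime p') SA NA]
        (f : N →ₗ[S] NA), IsBaseChange SA f →
        ∃ (PA : Type u) (_ : CommRing PA) (_ : Algebra (Localization.AtPrime p') PA) (_ : Algebra PA SA)
          (_ : IsScalarTower (Localization.AtPrime p') PA SA) (_ : Module PA NA) (_ : IsScalarTower PA SA NA)
          (g : PA), Function.Surjective (algebraMap PA SA) ∧
          Algebra.FinitePresentation (Localization.AtPrime p') PA ∧
          (∀ (Q : Ideal SA) [Q.IsPrime], Q.LiesOver q →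
            Q.LiesOver (IsLocalRing.maximalIdeal (Localization.AtPrime p')) → algebraMap PA SA g ∉ Q) ∧
          Module.FinitePresentation (Localization.Away g) (LocalizedModule (Submonoid.powers g) NA) ∧
          Module.Flat (Localization.AtPrime p') (LocalizedModule (Submonoid.powers (algebraMap PA SA g)) NA) := by
  obtain ⟨P, _, _, _, _, _, _, hP, hsurj, hNP⟩ := exists_fp_cover R S N
  haveI := hP
  haveI := hNP
  haveI : IsScalarTower R P N := IsScalarTower.of_algebraMap_smul fun r x => by
    rw [← algebraMap_smul S (algebraMap R P r) x, ← IsScalarTower.algebraMap_apply, algebraMap_smul]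
  let qP := q.comap (algebraMap P S)
  haveI : qP.LiesOver p := ⟨by
    show p = (q.comap (algebraMap P S)).comap (algebraMap R P)
    rw [Ideal.comap_comap, ← IsScalarTower.algebraMap_eq]
    exact Ideal.over_def q p⟩
  obtain ⟨T⟩ := exists_ptChart N p qP
  refine ⟨T.R', T.cR, T.aR, T.pR, T.pRp, T.nhdR, fun SA NA _ _ _ _ _ _ _ _ _ _ _ _ _ f hf => ?_⟩
  obtain ⟨PA, _, _, _, _, _, _, _, _, _, _, _, pP, pS, hPA⟩ :=
    exists_cover_baseChange (R := R) (P := P) (S := S) (Localization.AtPrime T.pR) SA hsurj
  haveI := pP
  haveI := pS
  letI : Module PA NA := Module.compHom NA (algebraMap PA SA)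
  haveI : IsScalarTower PA SA NA := IsScalarTower.of_algebraMap_smul fun _ _ => rfl
  letI : Module P NA := Module.compHom NA (algebraMap P PA)
  haveI : IsScalarTower P PA NA := IsScalarTower.of_algebraMap_smul fun _ _ => rfl
  haveI : IsScalarTower P S NA := IsScalarTower.of_algebraMap_smul fun x v => by
    show algebraMap P S x • v = algebraMap PA SA (algebraMap P PA x) • v
    rw [← IsScalarTower.algebraMap_apply, IsScalarTower.algebraMap_apply P S SA, algebraMap_smul SA]
  haveI : IsScalarTower (Localization.AtPrime T.pR) PA NA := IsScalarTower.of_algebraMap_smul fun c v => by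
    show algebraMap PA SA (algebraMap _ PA c) • v = c • v
    rw [← IsScalarTower.algebraMap_apply, algebraMap_smul]
  obtain ⟨g, hg, hfp, hfl⟩ := T.exists_nhd (flatAt_cover hsurj q hflat) PA NA (f.restrictScalars P)
    (isBaseChange_cover (S := S) SA f hf)
  haveI : Algebra.IsPushout R (Localization.AtPrime T.pR) P PA := Algebra.IsPushout.symm pP
  haveI : Algebra.FinitePresentation (Localization.AtPrime T.pR) PA :=
    Algebra.FinitePresentation.equiv (Algebra.IsPushout.equiv R (Localization.AtPrime T.pR) P PA)
  refine ⟨PA, inferInstance, inferInstance, inferInstance, inferInstance, inferInstance, inferInstance, g, hPA,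
    inferInstance, fun Q _ hQq hQm hmem => hg (Q.comap (algebraMap PA SA)) ⟨?_⟩ ⟨?_⟩ hmem, hfp, ?_⟩
  · show qP = (Q.comap (algebraMap PA SA)).comap (algebraMap P PA)
    rw [Ideal.comap_comap, ← IsScalarTower.algebraMap_eq, IsScalarTower.algebraMap_eq P S SA, ← Ideal.comap_comap]
    exact congrArg (Ideal.comap (algebraMap P S)) hQq.over
  · show _ = (Q.comap (algebraMap PA SA)).comap (algebraMap (Localization.AtPrime T.pR) PA)
    rw [Ideal.comap_comap, ← IsScalarTower.algebraMap_eq]
    exact hQm.over
  · refine (RG29.flat_localized_iff _).2 fun I z hz => ?_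
    obtain ⟨_, ⟨k, rfl⟩, hk⟩ := (RG29.flat_localized_iff _).1 hfl I z hz
    refine ⟨_, ⟨k, rfl⟩, ?_⟩
    dsimp only at hk ⊢
    rwa [← map_pow, algebraMap_smul]

end Groth.Agent.FlatCrit65.Dev
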