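import Groth.Agent.RG29.DevFlatProj
import Groth.Agent.RG29.DevCover
import Groth.Agent.RG29.FlatTransfer
import Groth.Agent.FlatCrit65.FlatLocus.Module
import Mathlib

/-!
Projectivity over an étale neighbourhood of the base of a finitely presented module flat at a point.
-/

set_option autoImplicit false
set_option linter.style.haveILetI false

universe u

open TensorProduct

namespace Groth.Agent.FlatCrit65.Dev

open RG29

/-- The conclusion of étale localization to a projective module. -/
def HasProjNhd (R S : Type u) [CommRing R] [CommRing S] [Algebra R S] (N : Type u) [AddCommGroup N] [Module S N]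
    (p : Ideal R) [p.IsPrime] (q : Ideal S) [q.IsPrime] : Prop :=
  ∃ (R' S' : Type u) (_ : CommRing R') (_ : CommRing S') (_ : Algebra R R') (_ : Algebra S S') (_ : Algebra R' S')
    (_ : Algebra R S') (_ : IsScalarTower R R' S') (_ : IsScalarTower R S S')
    (p' : Ideal R') (q' : Ideal S') (_ : p'.IsPrime) (_ : q'.IsPrime),
    FlatCA.IsEtaleNhd R R' p p' ∧ FlatCA.IsEtaleNhd S S' q q' ∧ q'.LiesOver p' ∧
    Module.Projective R' (RestrictScalars R' S' (S' ⊗[S] N))

theorem projective_restrictScalars {R' S' M : Type u} [CommRing R'] [CommRing S'] [Algebra R' S'] [AddCommGroup M]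
    [Module S' M] [Module R' M] [IsScalarTower R' S' M] [Module.Projective R' M] :
    Module.Projective R' (RestrictScalars R' S' M) :=
  Module.Projective.of_equiv
    ({ (RestrictScalars.addEquiv R' S' M).symm with
       map_smul' := fun a x => by
         apply (RestrictScalars.addEquiv R' S' M).injective
         simp [RestrictScalars.addEquiv_map_smul] } : M ≃ₗ[R'] RestrictScalars R' S' M)

/-- A point where the module vanishes. -/
theorem hasProjNhd_of_notMem {R S : Type u} [CommRing R] [CommRing S] [Algebra R S] {N : Type u} [AddCommGroup N]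
    [Module S N] [Module.Finite S N] {p : Ideal R} [p.IsPrime] {q : Ideal S} [hq : q.IsPrime] [q.LiesOver p]
    (h : (⟨q, hq⟩ : PrimeSpectrum S) ∉ Module.support S N) : HasProjNhd R S N p q := by
  obtain ⟨a, ha, hkill⟩ := exists_smul_eq_zero_of_notMem_support N ⟨q, hq⟩ h
  let S' := Localization.Away a
  haveI : Subsingleton (S' ⊗[S] N) := ⟨fun u v => by
    suffices h0 : ∀ z : S' ⊗[S] N, z = 0 from (h0 u).trans (h0 v).symm
    intro z
    have hu : IsUnit (algebraMap S S' a) := IsLocalization.Away.algebraMap_isUnit a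
    have h0 : algebraMap S S' a • z = 0 := by
      induction z using TensorProduct.induction_on with
      | zero => exact smul_zero _
      | tmul s n => rw [algebraMap_smul, ← TensorProduct.tmul_smul, hkill, TensorProduct.tmul_zero]
      | add u v hu hv => rw [smul_add, hu, hv, add_zero]
    exact hu.smul_eq_zero.1 h0⟩
  have hdisj : Disjoint (Submonoid.powers a : Set S) (q : Set S) :=
    (Ideal.disjoint_powers_iff_notMem_of_isPrime _).2 ha
  let q' := q.map (algebraMap S S')
  haveI : q'.IsPrime := IsLocalization.isPrime_of_isPrime_disjoint (Submonoid.powers a) S' q hq hdisj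
  haveI : q'.LiesOver q := ⟨(IsLocalization.under_map_of_isPrime_disjoint (Submonoid.powers a) S' hq hdisj).symm⟩
  refine ⟨R, S', inferInstance, inferInstance, inferInstance, inferInstance, inferInstance, inferInstance,
    inferInstance, inferInstance, p, q', inferInstance, inferInstance, isEtaleNhd_refl p,
    ⟨Algebra.Etale.of_isLocalizationAway a, inferInstance, bijective_mapₐ_of_quot q q' fun t => ?_⟩,
    Ideal.LiesOver.trans q' q p, ?_⟩
  · obtain ⟨⟨c, d⟩, hcd⟩ := IsLocalization.surj (Submonoid.powers a) t
    refine ⟨c, d, fun hd => ?_, by rw [hcd, sub_self]; exact q'.zero_mem⟩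
    obtain ⟨n, hn⟩ := d.2
    exact ha (hq.mem_of_pow_mem n (by rw [show a ^ n = (d : S) from hn]; exact hd))
  · haveI : Subsingleton (RestrictScalars R S' (S' ⊗[S] N)) :=
      (RestrictScalars.addEquiv R S' (S' ⊗[S] N)).toEquiv.subsingleton
    infer_instance

set_option maxHeartbeats 1000000 in
/-- The case where the module is flat over the base. -/
theorem hasProjNhd_of_flat {R S : Type u} [CommRing R] [CommRing S] [Algebra R S] [Algebra.FinitePresentation R S]
    (N : Type u) [AddCommGroup N] [Module S N] [Module R N] [IsScalarTower R S N] [Module.FinitePresentation S N]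
    [Module.Flat R N] (p : Ideal R) [p.IsPrime] (q : Ideal S) [hq : q.IsPrime] [q.LiesOver p] :
    HasProjNhd R S N p q := by
  by_cases h : (⟨q, hq⟩ : PrimeSpectrum S) ∈ Module.support S N
  swap
  · exact hasProjNhd_of_notMem h
  obtain ⟨x, hxq, hxc⟩ := exists_fiber_point p q
  have hx : x ∈ Module.support (p.Fiber S) (FlatCA.fiberMod p S N) := by
    refine (mem_support_fiberMod_iff p N x).2 ?_
    convert h using 2
    exact hxc
  obtain ⟨R', S', _, _, _, _, _, _, _, _, p', q', _, _, hnR, hnS, hqp, hdev⟩ :=
    exists_hasCompleteDevissageAt N p q ⟨x, hx, hxq⟩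
  obtain ⟨hetR, hoR, hbR⟩ := hnR
  obtain ⟨hetS, hoS, hbS⟩ := hnS
  haveI := hetR; haveI := hetS; haveI := hoR; haveI := hoS; haveI := hqp
  haveI : Algebra.FinitePresentation R S' := Algebra.FinitePresentation.trans R S S'
  haveI : Algebra.FinitePresentation R' S' :=
    Algebra.FinitePresentation.of_restrict_scalars_finitePresentation R R' S'
  let N' := S' ⊗[S] N
  haveI : SMulCommClass S R' S' := ⟨fun c d v => by rw [Algebra.smul_def d, Algebra.smul_def d, mul_smul_comm]⟩
  haveI : Module.Flat R' N' := by
    have h1 : Module.Flat R (LocalizedModule (⊥ : Submonoid S') N') := by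
      refine RG29.flat_localized_baseChange (R := R) (TensorProduct.isBaseChange S N S') ⊥ ⊥ ?_ ?_
      · intro t ht
        rw [Submonoid.mem_bot] at ht ⊢
        rw [ht, map_one]
      · exact (RG29.flat_localized_iff _).2 fun I z hz => ⟨1, Submonoid.one_mem _, by
          rw [one_smul]
          exact Module.Flat.lTensor_preserves_injective_linearMap I.subtype Subtype.val_injective
            (hz.trans (map_zero _).symm)⟩
    have h2 := (RG29.flat_localized_etale_iff (R := R) (R' := R') (⊥ : Submonoid S')).1 h1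
    refine Module.Flat.iff_lTensor_injective'.2 fun I => (injective_iff_map_eq_zero _).2 fun z hz => ?_
    obtain ⟨t, ht, htz⟩ := (RG29.flat_localized_iff _).1 h2 I z hz
    rwa [Submonoid.mem_bot.1 ht, one_smul] at htz
  obtain ⟨D, -⟩ := hdev N' _ (TensorProduct.isBaseChange S N S')
  obtain ⟨f, hf, hproj, -⟩ := exists_projective_localization N' p' D
  let Rf := Localization.Away f
  let g : S' := algebraMap R' S' f
  let Sf := Localization.Away g
  haveI : IsLocalization (Algebra.algebraMapSubmonoid S' (Submonoid.powers f)) Sf := by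
    rw [Algebra.algebraMapSubmonoid, Submonoid.map_powers]
    infer_instance
  letI : Algebra Rf Sf := localizationAlgebra (Submonoid.powers f) S'
  haveI : IsScalarTower R' Rf Sf := IsScalarTower.of_algebraMap_eq' (IsLocalization.map_comp (M := Submonoid.powers f)
    (T := Algebra.algebraMapSubmonoid S' (Submonoid.powers f)) (S := Rf) (Q := Sf) _).symm
  haveI : IsScalarTower R Rf Sf := IsScalarTower.of_algebraMap_eq fun r => by
    rw [IsScalarTower.algebraMap_apply R R' Rf, ← IsScalarTower.algebraMap_apply R' Rf Sf,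
      ← IsScalarTower.algebraMap_apply R R' Sf]
  have hdR : Disjoint (Submonoid.powers f : Set R') (p' : Set R') :=
    (Ideal.disjoint_powers_iff_notMem_of_isPrime _).2 hf
  have hg : g ∉ q' := fun hm => hf (hqp.over.ge hm)
  have hdS : Disjoint (Submonoid.powers g : Set S') (q' : Set S') :=
    (Ideal.disjoint_powers_iff_notMem_of_isPrime _).2 hg
  let pf := p'.map (algebraMap R' Rf)
  let qf := q'.map (algebraMap S' Sf)
  haveI : pf.IsPrime := IsLocalization.isPrime_of_isPrime_disjoint (Submonoid.powers f) Rf p' ‹_› hdR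
  haveI : qf.IsPrime := IsLocalization.isPrime_of_isPrime_disjoint (Submonoid.powers g) Sf q' ‹_› hdS
  haveI : pf.LiesOver p' := ⟨(IsLocalization.under_map_of_isPrime_disjoint (Submonoid.powers f) Rf ‹_› hdR).symm⟩
  haveI : qf.LiesOver q' := ⟨(IsLocalization.under_map_of_isPrime_disjoint (Submonoid.powers g) Sf ‹_› hdS).symm⟩
  have hnRf : FlatCA.IsEtaleNhd R' Rf p' pf := ⟨Algebra.Etale.of_isLocalizationAway f, inferInstance,
    bijective_mapₐ_of_quot p' pf fun t => by
      obtain ⟨⟨c, d⟩, hcd⟩ := IsLocalization.surj (Submonoid.powers f) t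
      exact ⟨c, d, fun hd => hdR.ne_of_mem d.2 hd rfl, by rw [hcd, sub_self]; exact pf.zero_mem⟩⟩
  have hnSf : FlatCA.IsEtaleNhd S' Sf q' qf := ⟨Algebra.Etale.of_isLocalizationAway g, inferInstance,
    bijective_mapₐ_of_quot q' qf fun t => by
      obtain ⟨⟨c, d⟩, hcd⟩ := IsLocalization.surj (Submonoid.powers g) t
      exact ⟨c, d, fun hd => hdS.ne_of_mem d.2 hd rfl, by rw [hcd, sub_self]; exact qf.zero_mem⟩⟩
  refine ⟨Rf, Sf, inferInstance, inferInstance, inferInstance, inferInstance, inferInstance, inferInstance,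
    inferInstance, inferInstance, pf, qf, inferInstance, inferInstance,
    isEtaleNhd_trans ⟨hetR, hoR, hbR⟩ hnRf, isEtaleNhd_trans ⟨hetS, hoS, hbS⟩ hnSf, ⟨?_⟩, ?_⟩
  · refine (IsLocalization.orderEmbedding (Submonoid.powers f) Rf).injective ?_
    show pf.comap (algebraMap R' Rf) = (qf.comap (algebraMap Rf Sf)).comap (algebraMap R' Rf)
    rw [Ideal.comap_comap, ← IsScalarTower.algebraMap_eq, IsScalarTower.algebraMap_eq R' S' Sf, ← Ideal.comap_comap]
    exact ((Ideal.over_def pf p').symm).trans ((Ideal.over_def q' p').trans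
      (congrArg (Ideal.comap (algebraMap R' S')) (Ideal.over_def qf q')))
  · haveI := hproj
    haveI : SMulCommClass S Rf Sf := ⟨fun c d v => by rw [Algebra.smul_def d, Algebra.smul_def d, mul_smul_comm]⟩
    haveI : IsLocalizedModule (Submonoid.powers f) ((IsScalarTower.toAlgHom R' S' Sf).toLinearMap) :=
      isLocalizedModule_iff_isLocalization.mpr inferInstance
    haveI : Algebra.IsPushout R' Rf S' Sf :=
      Algebra.IsPushout.symm (Algebra.isPushout_of_isLocalization (Submonoid.powers f) Rf S' Sf)
    haveI : SMulCommClass S' Rf Sf := ⟨fun c d v => by rw [Algebra.smul_def d, Algebra.smul_def d, mul_smul_comm]⟩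
    let e1 : Rf ⊗[R'] N' ≃ₗ[Rf] Sf ⊗[S'] N' := (Algebra.IsPushout.cancelBaseChange R' Rf S' Sf N').symm
    let e2 : LocalizedModule (Submonoid.powers f) N' ≃ₗ[Rf] Rf ⊗[R'] N' :=
      LocalizedModule.equivTensorProduct (Submonoid.powers f) N'
    let e3 : Sf ⊗[S'] N' ≃ₗ[Sf] Sf ⊗[S] N := AlgebraTensorModule.cancelBaseChange S S' Sf Sf N
    haveI : Module.Projective Rf (Sf ⊗[S] N) :=
      Module.Projective.of_equiv ((e2.trans e1).trans (e3.restrictScalars Rf))
    exact projective_restrictScalars

set_option maxHeartbeats 800000 in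
/-- Étale localization of a finitely presented module flat at a point to a projective module. -/
theorem hasProjNhd {R S : Type u} [CommRing R] [CommRing S] [Algebra R S] [Algebra.FinitePresentation R S]
    (N : Type u) [AddCommGroup N] [Module S N] [Module R N] [IsScalarTower R S N] [Module.FinitePresentation S N]
    (p : Ideal R) [p.IsPrime] (q : Ideal S) [hq : q.IsPrime] [q.LiesOver p] (hflat : FlatCA.FlatAt R q N) :
    HasProjNhd R S N p q := by
  obtain ⟨_, ⟨h, rfl⟩, hhq, hsub⟩ := PrimeSpectrum.isTopologicalBasis_basic_opens.exists_subset_of_mem_open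
    (show (⟨q, hq⟩ : PrimeSpectrum S) ∈ _ from hflat) (FlatCrit65.isOpen_flat_locus_module (R := R) (S := S) (M := N))
  let S₁ := Localization.Away h
  let N₁ := S₁ ⊗[S] N
  haveI : Algebra.FinitePresentation R S₁ := Algebra.FinitePresentation.trans R S S₁
  have hdisj : Disjoint (Submonoid.powers h : Set S) (q : Set S) :=
    (Ideal.disjoint_powers_iff_notMem_of_isPrime _).2 hhq
  let q₁ := q.map (algebraMap S S₁)
  haveI : q₁.IsPrime := IsLocalization.isPrime_of_isPrime_disjoint (Submonoid.powers h) S₁ q hq hdisj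
  haveI : q₁.LiesOver q := ⟨(IsLocalization.under_map_of_isPrime_disjoint (Submonoid.powers h) S₁ hq hdisj).symm⟩
  haveI : q₁.LiesOver p := Ideal.LiesOver.trans q₁ q p
  have hn₁ : FlatCA.IsEtaleNhd S S₁ q q₁ := ⟨Algebra.Etale.of_isLocalizationAway h, inferInstance,
    bijective_mapₐ_of_quot q q₁ fun t => by
      obtain ⟨⟨c, d⟩, hcd⟩ := IsLocalization.surj (Submonoid.powers h) t
      exact ⟨c, d, fun hd => hdisj.ne_of_mem d.2 hd rfl, by rw [hcd, sub_self]; exact q₁.zero_mem⟩⟩
  haveI : Module.Flat R N₁ := by
    haveI : IsScalarTower R S (LocalizedModule (Submonoid.powers h) N) := inferInstance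
    haveI : Module.Flat R (LocalizedModule (Submonoid.powers h) N) := by
      refine (RG29.flat_localized_iff _).2 fun I z hz => ?_
      let J : Ideal S := LinearMap.ker (LinearMap.toSpanSingleton S (N ⊗[R] I) z)
      have hrad : h ∈ J.radical := by
        rw [Ideal.radical_eq_sInf, Submodule.mem_sInf]
        rintro P ⟨hJP, hP⟩
        by_contra hhP
        obtain ⟨s, hs, hsz⟩ := (RG29.flat_localized_iff _).1 (hsub (show (⟨P, hP⟩ : PrimeSpectrum S) ∈ _ from hhP)) I z hz
        exact hs (hJP (by simpa [J] using hsz))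
      obtain ⟨n, hn⟩ := hrad
      exact ⟨h ^ n, ⟨n, rfl⟩, by simpa [J] using hn⟩
    exact Module.Flat.of_linearEquiv
      ((LocalizedModule.equivTensorProduct (Submonoid.powers h) N).restrictScalars R).symm
  obtain ⟨R', S', _, _, _, _, _, _, _, _, p', q', _, _, hnR, hnS, hqp, hproj⟩ := hasProjNhd_of_flat N₁ p q₁
  letI : Algebra S S' := Algebra.compHom S' (algebraMap S S₁)
  haveI : IsScalarTower S S₁ S' := IsScalarTower.of_algebraMap_eq (R := S) (S := S₁) (A := S') fun _ => rfl
  haveI : IsScalarTower R S S' := IsScalarTower.of_algebraMap_eq (R := R) (S := S) (A := S') fun r => by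
    rw [IsScalarTower.algebraMap_apply S S₁ S', ← IsScalarTower.algebraMap_apply R S S₁,
      ← IsScalarTower.algebraMap_apply R S₁ S']
  refine ⟨R', S', inferInstance, inferInstance, inferInstance, inferInstance, inferInstance, inferInstance,
    inferInstance, inferInstance, p', q', inferInstance, inferInstance, hnR, isEtaleNhd_trans hn₁ hnS, hqp, ?_⟩
  haveI := hproj
  haveI : SMulCommClass S₁ R' S' := ⟨fun c d v => by rw [Algebra.smul_def d, Algebra.smul_def d, mul_smul_comm]⟩
  haveI : SMulCommClass S R' S' := ⟨fun c d v => by rw [Algebra.smul_def d, Algebra.smul_def d, mul_smul_comm]⟩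
  haveI : Module.Projective R' (S' ⊗[S₁] N₁) := Module.Projective.of_equiv
    ({ RestrictScalars.addEquiv R' S' (S' ⊗[S₁] N₁) with
       map_smul' := fun a x => by simp [RestrictScalars.addEquiv_map_smul] } :
      RestrictScalars R' S' (S' ⊗[S₁] N₁) ≃ₗ[R'] S' ⊗[S₁] N₁)
  let e : S' ⊗[S₁] N₁ ≃ₗ[S'] S' ⊗[S] N := AlgebraTensorModule.cancelBaseChange S S₁ S' S' N
  haveI : Module.Projective R' (S' ⊗[S] N) := Module.Projective.of_equiv (e.restrictScalars R')
  exact projective_restrictScalars

end Groth.Agent.FlatCrit65.Dev
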