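import Groth.Agent.FlatCrit65.Dev.ProjNhd
import Groth.Agent.UH57.Basic
import Mathlib

/-!
Scheme form of the étale localization to projective global sections.
-/

set_option autoImplicit false
set_option linter.style.haveILetI false

universe u

open CategoryTheory AlgebraicGeometry TensorProduct

namespace Groth.Agent.FlatCrit65.Dev

/-- Trivial residue field extension at one point of a map of affine schemes. -/
theorem surjective_residueFieldMap_specMap {A B : Type u} [CommRing A] [CommRing B] [Algebra A B]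
    (p : Ideal A) [p.IsPrime] (x : PrimeSpectrum B) [hx : x.asIdeal.LiesOver p]
    (hb : Function.Bijective (Ideal.ResidueField.mapₐ p x.asIdeal (Algebra.ofId A B) hx.over)) :
    Function.Surjective ((Spec.map (CommRingCat.ofHom (algebraMap A B))).residueFieldMap
      (show Spec (CommRingCat.of B) from x)) := by
  have key : ∀ b : B, ∃ a s : A, algebraMap A B s ∉ x.asIdeal ∧ algebraMap A B s * b - algebraMap A B a ∈ x.asIdeal := by
    intro b
    obtain ⟨v, hv⟩ := hb.2 (algebraMap B x.asIdeal.ResidueField b)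
    obtain ⟨a, s, hs, rfl⟩ := IsFractionRing.div_surjective (A := A ⧸ p) v
    obtain ⟨a, rfl⟩ := Ideal.Quotient.mk_surjective a
    obtain ⟨s, rfl⟩ := Ideal.Quotient.mk_surjective s
    have hs' : algebraMap A B s ∉ x.asIdeal := fun h =>
      nonZeroDivisors.ne_zero hs (Ideal.Quotient.eq_zero_iff_mem.2 (hx.over.ge h))
    refine ⟨a, s, hs', ?_⟩
    rw [Ideal.algebraMap_quotient_residueField_mk, Ideal.algebraMap_quotient_residueField_mk, map_div₀,
      AlgHom.commutes, AlgHom.commutes, IsScalarTower.algebraMap_apply A B x.asIdeal.ResidueField,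
      IsScalarTower.algebraMap_apply A B x.asIdeal.ResidueField, eq_comm, eq_div_iff
        (by rwa [ne_eq, Ideal.algebraMap_residueField_eq_zero]), ← map_mul, ← sub_eq_zero, ← map_sub,
      Ideal.algebraMap_residueField_eq_zero, mul_comm] at hv
    exact hv
  intro z
  obtain ⟨b, t, ht, e⟩ := UH57.ev_surj (A := B) (show Spec (CommRingCat.of B) from x) z
  obtain ⟨a, s, hs, h1⟩ := key b
  obtain ⟨a', s', hs', h2⟩ := key t
  rw [← UH57.ev_eq_zero (x := (show Spec (CommRingCat.of B) from x)), map_sub, map_mul, sub_eq_zero] at h1 h2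
  have hsn : UH57.ev B (show Spec (CommRingCat.of B) from x) (algebraMap A B s) ≠ 0 := fun h =>
    hs (UH57.ev_eq_zero.1 h)
  have hs'n : UH57.ev B (show Spec (CommRingCat.of B) from x) (algebraMap A B s') ≠ 0 := fun h =>
    hs' (UH57.ev_eq_zero.1 h)
  have ha'n : UH57.ev B (show Spec (CommRingCat.of B) from x) (algebraMap A B a') ≠ 0 := by
    rw [← h2]; exact mul_ne_zero hs'n ht
  refine ⟨UH57.ev A _ (a * s') / UH57.ev A _ (s * a'), ?_⟩
  rw [map_div₀, UH57.ev_natural, UH57.ev_natural, div_eq_iff
    (by rw [map_mul, map_mul]; exact mul_ne_zero hsn ha'n)]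
  simp only [map_mul]
  rw [← h1, ← h2, ← e]
  ring

/-- Composing with an open immersion keeps the residue field extension trivial. -/
theorem surjective_residueFieldMap_comp {X Y Z : Scheme.{u}} (f : X ⟶ Y) (j : Y ⟶ Z) [IsOpenImmersion j] (x : X)
    (h : Function.Surjective (f.residueFieldMap x)) : Function.Surjective ((f ≫ j).residueFieldMap x) := by
  rw [Scheme.residueFieldMap_comp]
  show Function.Surjective ((f.residueFieldMap x).hom.comp (j.residueFieldMap (f x)).hom)
  exact h.comp (ConcreteCategory.bijective_of_isIso (j.residueFieldMap (f x))).2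

/-- Projectivity of global sections of a map of affine schemes. -/
theorem projective_appTop {R B : Type u} [CommRing R] [CommRing B] [Algebra R B] [Module.Projective R B] :
    @Module.Projective Γ(Spec (CommRingCat.of R), ⊤) _ Γ(Spec (CommRingCat.of B), ⊤) _
      ((Spec.map (CommRingCat.ofHom (algebraMap R B))).appTop).hom.toAlgebra.toModule := by
  let ψ := (Spec.map (CommRingCat.ofHom (algebraMap R B))).appTop
  letI := ψ.hom.toAlgebra
  let eR : R ≃+* Γ(Spec (CommRingCat.of R), ⊤) := (Scheme.ΓSpecIso (CommRingCat.of R)).commRingCatIsoToRingEquiv.symm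
  let eB : B ≃+* Γ(Spec (CommRingCat.of B), ⊤) := (Scheme.ΓSpecIso (CommRingCat.of B)).commRingCatIsoToRingEquiv.symm
  have hnat : ∀ r : R, algebraMap Γ(Spec (CommRingCat.of R), ⊤) Γ(Spec (CommRingCat.of B), ⊤) (eR r) =
      eB (algebraMap R B r) := fun r =>
    congr($(Scheme.ΓSpecIso_inv_naturality (CommRingCat.ofHom (algebraMap R B))) r).symm
  haveI i1 : RingHomInvPair (eR : R →+* Γ(Spec (CommRingCat.of R), ⊤)) (eR.symm : _ →+* R) :=
    RingHomInvPair.of_ringEquiv eR
  haveI i2 : RingHomInvPair (eR.symm : Γ(Spec (CommRingCat.of R), ⊤) →+* R) (eR : R →+* _) :=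
    RingHomInvPair.of_ringEquiv_symm eR
  let e : B ≃ₛₗ[(eR : R →+* Γ(Spec (CommRingCat.of R), ⊤))] Γ(Spec (CommRingCat.of B), ⊤) :=
    { eB.toAddEquiv with
      map_smul' := fun r b => by
        show eB (r • b) = eR r • eB b
        rw [Algebra.smul_def, Algebra.smul_def, map_mul, hnat] }
  exact Module.Projective.of_equiv e

set_option maxHeartbeats 1000000 in
/-- Étale localization of a scheme morphism flat at a point. -/
theorem exists_projective_sections {X S : Scheme.{u}} (f : X ⟶ S) [LocallyOfFinitePresentation f] (x : X)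
    (hx : (f.stalkMap x).hom.Flat) :
    ∃ (X' S' : Scheme.{u}) (g : X' ⟶ X) (e : S' ⟶ S) (f' : X' ⟶ S') (x' : X'),
      IsAffine X' ∧ IsAffine S' ∧ Etale g ∧ Etale e ∧ g ≫ f = f' ≫ e ∧ g x' = x ∧ e (f' x') = f x ∧
      Function.Surjective (g.residueFieldMap x') ∧ Function.Surjective (e.residueFieldMap (f' x')) ∧
      @Module.Projective Γ(S', ⊤) _ Γ(X', ⊤) _ (f'.appTop).hom.toAlgebra.toModule := by
  obtain ⟨V, hV, hxV, -⟩ := exists_isAffineOpen_mem_and_subset (X := S) (x := f.base x) (U := ⊤) trivial
  obtain ⟨U, hU, hxU, e⟩ := exists_isAffineOpen_mem_and_subset (X := X) (x := x) (U := f ⁻¹ᵁ V) hxV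
  let A := Γ(S, V)
  let B := Γ(X, U)
  letI : Algebra A B := (f.appLE V U e).hom.toAlgebra
  haveI : Algebra.FinitePresentation A B :=
    RingHom.finitePresentation_algebraMap.1 (LocallyOfFinitePresentation.finitePresentation_appLE f hV hU e)
  let qx := hU.primeIdealOf ⟨x, hxU⟩
  let q := qx.asIdeal
  let px := hV.primeIdealOf ⟨f.base x, hxV⟩
  let p := px.asIdeal
  have hpq : q.comap (algebraMap A B) = p := by
    have : PrimeSpectrum.comap (f.appLE V U e).hom qx = px :=
      IsAffineOpen.comap_primeIdealOf_appLE V hV U hU e hxU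
    exact congrArg PrimeSpectrum.asIdeal this
  haveI : q.LiesOver p := ⟨hpq.symm⟩
  have hflat : FlatCA.FlatAt A q B := by
    letI : Algebra A (X.presheaf.stalk x) := ((X.presheaf.germ U x hxU).hom.comp (f.appLE V U e).hom).toAlgebra
    letI : Algebra B (X.presheaf.stalk x) := (X.presheaf.germ U x hxU).hom.toAlgebra
    haveI : IsScalarTower A B (X.presheaf.stalk x) := IsScalarTower.of_algebraMap_eq fun _ => rfl
    haveI : IsLocalization.AtPrime (X.presheaf.stalk x) q := hU.isLocalization_stalk ⟨x, hxU⟩
    letI : Algebra A (S.presheaf.stalk (f.base x)) := (S.presheaf.germ V (f.base x) hxV).hom.toAlgebra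
    haveI : IsLocalization.AtPrime (S.presheaf.stalk (f.base x)) p := hV.isLocalization_stalk ⟨f.base x, hxV⟩
    letI : Algebra (S.presheaf.stalk (f.base x)) (X.presheaf.stalk x) := (f.stalkMap x).hom.toAlgebra
    haveI : IsScalarTower A (S.presheaf.stalk (f.base x)) (X.presheaf.stalk x) :=
      IsScalarTower.of_algebraMap_eq fun a => by
        show X.presheaf.germ U x hxU ((f.appLE V U e).hom a) = (f.stalkMap x).hom (S.presheaf.germ V (f.base x) hxV a)
        simp [Scheme.Hom.appLE, TopCat.Presheaf.germ_res_apply, Scheme.Hom.germ_stalkMap_apply]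
    haveI : Module.Flat (S.presheaf.stalk (f.base x)) (X.presheaf.stalk x) := hx
    haveI : Module.Flat A (S.presheaf.stalk (f.base x)) := IsLocalization.flat _ p.primeCompl
    haveI : Module.Flat A (X.presheaf.stalk x) := Module.Flat.trans A (S.presheaf.stalk (f.base x)) _
    exact Module.Flat.of_linearEquiv ((IsLocalizedModule.linearEquiv q.primeCompl
      (LocalizedModule.mkLinearMap q.primeCompl B) (Algebra.linearMap B (X.presheaf.stalk x))).restrictScalars A)
  haveI : Module.FinitePresentation B B := Module.finitePresentation_of_projective B B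
  obtain ⟨R', S', _, _, _, _, _, _, _, _, p', q', _, _, ⟨hetR, hoR, hbR⟩, ⟨hetS, hoS, hbS⟩, hqp, hproj⟩ :=
    hasProjNhd B p q hflat
  haveI := hetR; haveI := hetS; haveI := hoR; haveI := hoS; haveI := hqp
  haveI := hproj
  haveI : SMulCommClass B R' S' := ⟨fun c d v => by rw [Algebra.smul_def d, Algebra.smul_def d, mul_smul_comm]⟩
  haveI : Module.Projective R' S' := by
    haveI : Module.Projective R' (S' ⊗[B] B) := Module.Projective.of_equiv
      ({ RestrictScalars.addEquiv R' S' (S' ⊗[B] B) with
         map_smul' := fun a x => by simp [RestrictScalars.addEquiv_map_smul] } :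
        RestrictScalars R' S' (S' ⊗[B] B) ≃ₗ[R'] S' ⊗[B] B)
    exact Module.Projective.of_equiv ((AlgebraTensorModule.rid B S' S').restrictScalars R')
  let φA : CommRingCat.of A ⟶ CommRingCat.of R' := CommRingCat.ofHom (algebraMap A R')
  let φB : CommRingCat.of B ⟶ CommRingCat.of S' := CommRingCat.ofHom (algebraMap B S')
  let φ' : CommRingCat.of R' ⟶ CommRingCat.of S' := CommRingCat.ofHom (algebraMap R' S')
  haveI : Etale (Spec.map φA) := (HasRingHomProperty.Spec_iff (P := @Etale)).2 (RingHom.etale_algebraMap.2 hetR)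
  haveI : Etale (Spec.map φB) := (HasRingHomProperty.Spec_iff (P := @Etale)).2 (RingHom.etale_algebraMap.2 hetS)
  let xq : PrimeSpectrum S' := ⟨q', inferInstance⟩
  have hsq : f.appLE V U e ≫ φB = φA ≫ φ' := by
    ext a
    show algebraMap B S' (algebraMap A B a) = algebraMap R' S' (algebraMap A R' a)
    rw [← IsScalarTower.algebraMap_apply, ← IsScalarTower.algebraMap_apply]
  have hgx : Spec.map φB (show Spec (CommRingCat.of S') from xq) = qx := PrimeSpectrum.ext hoS.over.symm
  have hex : Spec.map φA (Spec.map φ' (show Spec (CommRingCat.of S') from xq)) = px := PrimeSpectrum.ext <| by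
    show (q'.comap (algebraMap R' S')).comap (algebraMap A R') = p
    rw [← Ideal.under_def (A := R') q', ← hqp.over]
    exact hoR.over.symm
  refine ⟨Spec (CommRingCat.of S'), Spec (CommRingCat.of R'), Spec.map φB ≫ hU.fromSpec, Spec.map φA ≫ hV.fromSpec,
    Spec.map φ', xq, inferInstance, inferInstance, inferInstance, inferInstance, ?_, ?_, ?_, ?_, ?_, ?_⟩
  · rw [Category.assoc, ← IsAffineOpen.SpecMap_appLE_fromSpec f hV hU e, ← Spec.map_comp_assoc, hsq,
      Spec.map_comp_assoc]
  · show hU.fromSpec (Spec.map φB (show Spec (CommRingCat.of S') from xq)) = x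
    rw [hgx]
    exact hU.fromSpec_primeIdealOf ⟨x, hxU⟩
  · show hV.fromSpec (Spec.map φA (Spec.map φ' (show Spec (CommRingCat.of S') from xq))) = f x
    rw [hex]
    exact hV.fromSpec_primeIdealOf ⟨f.base x, hxV⟩
  · exact surjective_residueFieldMap_comp _ _ _ (surjective_residueFieldMap_specMap q xq hbS)
  · have hP : (Spec.map φ' (show Spec (CommRingCat.of S') from xq)) = (show Spec (CommRingCat.of R') from
        (⟨p', inferInstance⟩ : PrimeSpectrum R')) := PrimeSpectrum.ext hqp.over.symm
    rw [hP]
    exact surjective_residueFieldMap_comp _ _ _ (surjective_residueFieldMap_specMap p ⟨p', inferInstance⟩ hbR)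
  · exact projective_appTop

end Groth.Agent.FlatCrit65.Dev
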