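import Groth.Agent.FlatCrit65.Dev.LocalFree
import Mathlib

/-!
The recursion along a complete dévissage over a local base ring.
-/

set_option autoImplicit false
set_option linter.style.haveILetI false

universe u

open TensorProduct

namespace Groth.Agent.FlatCrit65.Dev

open RG29

set_option maxHeartbeats 1000000 in
/-- One step, with the base changed rings constructed. -/
theorem step_free' {R A : Type u} [CommRing R] [CommRing A] [IsLocalRing A] [Algebra R A]
    (p : Ideal R) [p.IsPrime] (hA : (IsLocalRing.maximalIdeal A).comap (algebraMap R A) = p)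
    {S : Type u} [CommRing S] [Algebra R S] {N : Type u} [AddCommGroup N] [Module S N]
    {C D G : Type u} [CommRing C] [CommRing D] [Algebra S C] [Algebra R C] [IsScalarTower R S C] [Algebra R D]
    [Algebra D C] [IsScalarTower R D C] [AddCommGroup G] [Module C G] [Module S G] [IsScalarTower S C G] [Module D G]
    [IsScalarTower D C G] [hP : (p.map (algebraMap R D)).IsPrime] (isoN : N ≃ₗ[S] G)
    (hsurjC : Function.Surjective (algebraMap S C)) [Algebra.FinitePresentation S C] [Module.Finite D C]
    [Module.Finite C G] [Algebra.Smooth R D] (hirr : FlatCA.GeomIrredFibres R D) {r : ℕ} (α : (Fin r → D) →ₗ[D] G)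
    (hα : Function.Bijective (α.baseChange (p.map (algebraMap R D)).ResidueField))
    (Z₀ : Set (PrimeSpectrum S)) (Zd : Set (PrimeSpectrum D)) (hne : Zd.Nonempty)
    (hover : ∀ y ∈ Zd, y.asIdeal.comap (algebraMap R D) = p)
    (hchain : ∀ z : PrimeSpectrum C, PrimeSpectrum.comap (algebraMap D C) z ∈ Zd →
      PrimeSpectrum.comap (algebraMap S C) z ∈ Z₀)
    (htail : Function.Surjective α ∨ ∀ (D₁ : Type u) [CommRing D₁] [Algebra D D₁] [Algebra A D₁] [Algebra R D₁]
      [IsScalarTower R A D₁] [IsScalarTower R D D₁] [Algebra.IsPushout R D A D₁] (M₂ : Type u) [AddCommGroup M₂]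
      [Module D₁ M₂] [Module D M₂] [IsScalarTower D D₁ M₂] [Module A M₂] [IsScalarTower A D₁ M₂]
      (j : (G ⧸ LinearMap.range α) →ₗ[D] M₂), IsBaseChange D₁ j →
      (∀ y₁ : PrimeSpectrum D₁, y₁.asIdeal.comap (algebraMap A D₁) = IsLocalRing.maximalIdeal A →
        PrimeSpectrum.comap (algebraMap D D₁) y₁ ∈ Zd → FlatCA.FlatAt A y₁.asIdeal M₂) →
      Module.Free A M₂ ∧ Module.FinitePresentation D₁ M₂ ∧
        NoTorsionOff A M₂ {y₁ | y₁.asIdeal.comap (algebraMap A D₁) = IsLocalRing.maximalIdeal A ∧
          PrimeSpectrum.comap (algebraMap D D₁) y₁ ∈ Zd})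
    (S'' : Type u) [CommRing S''] [Algebra S S''] [Algebra A S''] [Algebra R S''] [IsScalarTower R A S'']
    [IsScalarTower R S S''] [Algebra.IsPushout R S A S''] (N'' : Type u) [AddCommGroup N''] [Module S'' N'']
    [Module S N''] [IsScalarTower S S'' N''] [Module A N''] [IsScalarTower A S'' N'']
    (i : N →ₗ[S] N'') (hi : IsBaseChange S'' i)
    (hflat : ∀ Q : PrimeSpectrum S'', Q.asIdeal.comap (algebraMap A S'') = IsLocalRing.maximalIdeal A →
      PrimeSpectrum.comap (algebraMap S S'') Q ∈ Z₀ → FlatCA.FlatAt A Q.asIdeal N'') :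
    Module.Free A N'' ∧ Module.FinitePresentation S'' N'' ∧
      NoTorsionOff A N'' {Q | Q.asIdeal.comap (algebraMap A S'') = IsLocalRing.maximalIdeal A ∧
        PrimeSpectrum.comap (algebraMap S S'') Q ∈ Z₀} := by
  haveI : Algebra.IsPushout R A S S'' := Algebra.IsPushout.symm inferInstance
  -- base changes
  let D₁ := A ⊗[R] D
  letI aDD₁ : Algebra D D₁ := Algebra.TensorProduct.rightAlgebra
  haveI : IsScalarTower R D D₁ := IsScalarTower.of_algebraMap_eq (R := R) (S := D) (A := D₁) fun r =>
    ((Algebra.TensorProduct.includeRight : D →ₐ[R] D₁).commutes r).symm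
  haveI : Algebra.IsPushout R D A D₁ := TensorProduct.isPushout'
  let C₁ := D₁ ⊗[D] C
  letI aCC₁ : Algebra C C₁ := Algebra.TensorProduct.rightAlgebra
  haveI : IsScalarTower D C C₁ := IsScalarTower.of_algebraMap_eq (R := D) (S := C) (A := C₁) fun d =>
    ((Algebra.TensorProduct.includeRight : C →ₐ[D] C₁).commutes d).symm
  haveI pDC : Algebra.IsPushout D C D₁ C₁ := TensorProduct.isPushout'
  haveI : IsScalarTower R D C₁ := IsScalarTower.of_algebraMap_eq (R := R) (S := D) (A := C₁) fun r => by
    exact ((IsScalarTower.algebraMap_apply R D₁ C₁ r).trans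
      (congrArg (algebraMap D₁ C₁) (IsScalarTower.algebraMap_apply R D D₁ r))).trans
      (IsScalarTower.algebraMap_apply D D₁ C₁ (algebraMap R D r)).symm
  haveI : IsScalarTower R C C₁ := IsScalarTower.of_algebraMap_eq (R := R) (S := C) (A := C₁) fun r => by
    rw [IsScalarTower.algebraMap_apply R D C, ← IsScalarTower.algebraMap_apply D C C₁,
      ← IsScalarTower.algebraMap_apply R D C₁]
  haveI : IsScalarTower R A C₁ := IsScalarTower.of_algebraMap_eq (R := R) (S := A) (A := C₁) fun r => by
    rw [IsScalarTower.algebraMap_apply A D₁ C₁, ← IsScalarTower.algebraMap_apply R A D₁,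
      ← IsScalarTower.algebraMap_apply R D₁ C₁]
  haveI pRC : Algebra.IsPushout R C A C₁ := (Algebra.IsPushout.comp_iff R D A D₁ (T := C) (T' := C₁)).2 pDC
  letI aSC₁ : Algebra S C₁ := ((algebraMap C C₁).comp (algebraMap S C)).toAlgebra
  haveI : IsScalarTower S C C₁ := IsScalarTower.of_algebraMap_eq (R := S) (S := C) (A := C₁) fun _ => rfl
  haveI : IsScalarTower R S C₁ := IsScalarTower.of_algebraMap_eq (R := R) (S := S) (A := C₁) fun r => by
    rw [IsScalarTower.algebraMap_apply R C C₁, IsScalarTower.algebraMap_apply R S C,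
      ← IsScalarTower.algebraMap_apply S C C₁]
  let ψ₁ : S'' →ₐ[S] C₁ := (Algebra.TensorProduct.lift (Algebra.ofId S C₁) (IsScalarTower.toAlgHom R A C₁)
    fun _ _ => .all _ _).comp (Algebra.IsPushout.equiv R S A S'').symm.toAlgHom
  letI aS''C₁ : Algebra S'' C₁ := ψ₁.toRingHom.toAlgebra
  haveI : IsScalarTower S S'' C₁ := IsScalarTower.of_algHom ψ₁
  have hψR : ∀ r, algebraMap S'' C₁ (algebraMap A S'' r) = algebraMap A C₁ r := fun r => by
    show (Algebra.TensorProduct.lift (Algebra.ofId S C₁) (IsScalarTower.toAlgHom R A C₁)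
      fun _ _ => .all _ _) ((Algebra.IsPushout.equiv R S A S'').symm (algebraMap A S'' r)) = _
    rw [Algebra.IsPushout.equiv_symm_algebraMap_right, Algebra.TensorProduct.lift_tmul, map_one, one_mul]
    rfl
  haveI : IsScalarTower A S'' C₁ := IsScalarTower.of_algebraMap_eq (R := A) (S := S'') (A := C₁) fun r => (hψR r).symm
  haveI : IsScalarTower R S'' C₁ := IsScalarTower.of_algebraMap_eq (R := R) (S := S'') (A := C₁) fun r => by
    rw [IsScalarTower.algebraMap_apply R S S'', ← IsScalarTower.algebraMap_apply S S'' C₁,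
      ← IsScalarTower.algebraMap_apply R S C₁]
  haveI pSC : Algebra.IsPushout S C S'' C₁ :=
    (Algebra.IsPushout.comp_iff R S A S'' (T := C) (T' := C₁)).1 pRC
  haveI : Algebra.IsPushout S S'' C C₁ := Algebra.IsPushout.symm pSC
  haveI : Algebra.IsPushout D D₁ C C₁ := Algebra.IsPushout.symm pDC
  have hsurj : Function.Surjective (algebraMap S'' C₁) := fun c => by
    obtain ⟨u, rfl⟩ := (Algebra.IsPushout.equiv S C S'' C₁).surjective c
    induction u using TensorProduct.induction_on with
    | zero => exact ⟨0, by simp⟩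
    | tmul c s =>
      obtain ⟨s', rfl⟩ := hsurjC c
      refine ⟨algebraMap S S'' s' * s, ?_⟩
      rw [Algebra.IsPushout.equiv_tmul, map_mul, ← IsScalarTower.algebraMap_apply, ← IsScalarTower.algebraMap_apply]
    | add u v hu hv =>
      obtain ⟨a, ha⟩ := hu
      obtain ⟨b, hb⟩ := hv
      exact ⟨a + b, by rw [map_add, map_add, ha, hb]⟩
  have hfp : Algebra.FinitePresentation S'' C₁ :=
    Algebra.FinitePresentation.equiv (Algebra.IsPushout.equiv S S'' C C₁)
  haveI : Algebra.Smooth A D₁ := inferInstance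
  refine step_free p hA hi (C := C) (D := D) (C₁ := C₁) (D₁ := D₁) (geomIrred_baseChange hirr) hsurj hfp isoN α hα
    Z₀ Zd hne hover hchain hflat fun M₂ _ _ _ _ _ _ j hj hfl => ?_
  rcases htail with hlast | hT
  · haveI : Subsingleton (G ⧸ LinearMap.range α) :=
      Submodule.Quotient.subsingleton_iff.2 (LinearMap.range_eq_top.2 hlast)
    haveI : Subsingleton M₂ := hj.equiv.symm.toEquiv.subsingleton
    exact ⟨inferInstance, inferInstance, noTorsionOff_of_subsingleton A M₂ _⟩
  · exact hT D₁ M₂ j hj hfl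

/-- Points of a complete dévissage at which the module is assumed flat. -/
theorem completeDevissage_free_baseChange {R A : Type u} [CommRing R] [CommRing A] [IsLocalRing A] [Algebra R A]
    (p : Ideal R) [p.IsPrime] (hA : (IsLocalRing.maximalIdeal A).comap (algebraMap R A) = p) :
    ∀ (k : ℕ) {S : Type u} [CommRing S] [Algebra R S] {N : Type u} [AddCommGroup N] [Module S N]
      (T : FlatCA.CompleteDevissage R S N p), T.n = k + 1 →
      ∀ (Z₀ : Set (PrimeSpectrum S)) (Zs : ∀ i, Set (PrimeSpectrum (T.B i))), (∀ i < T.n, (Zs i).Nonempty) →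
      (∀ i < T.n, ∀ y ∈ Zs i, y.asIdeal.comap (algebraMap R (T.B i)) = p) →
      (∀ z : PrimeSpectrum (T.A 0), PrimeSpectrum.comap (algebraMap (T.B 0) (T.A 0)) z ∈ Zs 0 →
        PrimeSpectrum.comap (algebraMap S (T.A 0)) z ∈ Z₀) →
      (∀ i, i + 1 < T.n → ∀ z : PrimeSpectrum (T.A (i + 1)),
        PrimeSpectrum.comap (algebraMap (T.B (i + 1)) (T.A (i + 1))) z ∈ Zs (i + 1) →
        PrimeSpectrum.comap (algebraMap (T.B i) (T.A (i + 1))) z ∈ Zs i) →
      ∀ (S'' : Type u) [CommRing S''] [Algebra S S''] [Algebra A S''] [Algebra R S''] [IsScalarTower R A S'']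
      [IsScalarTower R S S''] [Algebra.IsPushout R S A S''] (N'' : Type u) [AddCommGroup N''] [Module S'' N'']
      [Module S N''] [IsScalarTower S S'' N''] [Module A N''] [IsScalarTower A S'' N'']
      (i : N →ₗ[S] N''), IsBaseChange S'' i →
      (∀ Q : PrimeSpectrum S'', Q.asIdeal.comap (algebraMap A S'') = IsLocalRing.maximalIdeal A →
        PrimeSpectrum.comap (algebraMap S S'') Q ∈ Z₀ → FlatCA.FlatAt A Q.asIdeal N'') →
      Module.Free A N'' ∧ Module.FinitePresentation S'' N'' ∧
        NoTorsionOff A N'' {Q | Q.asIdeal.comap (algebraMap A S'') = IsLocalRing.maximalIdeal A ∧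
          PrimeSpectrum.comap (algebraMap S S'') Q ∈ Z₀} := by
  intro k
  induction k with
  | zero =>
    intro S _ _ N _ _ T hn Z₀ Zs hne hover h0 hch S'' _ _ _ _ _ _ _ N'' _ _ _ _ _ _ i hi hflat
    haveI := T.finiteBA 0 (by omega)
    haveI := T.finiteM 0 (by omega)
    haveI := T.smooth 0 (by omega)
    haveI := T.fpSA
    refine step_free' p hA (D := T.B 0) T.isoN T.surjSA (T.geomIrred 0 (by omega)) (T.α 0)
      (T.fibreIso 0 (by omega)) Z₀ (Zs 0) (hne 0 (by omega)) (hover 0 (by omega)) h0 (Or.inl ?_) S'' N'' i hi hflat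
    have h := T.cokerLast
    rw [show T.n - 1 = 0 by omega] at h
    exact h
  | succ k IH =>
    intro S _ _ N _ _ T hn Z₀ Zs hne hover h0 hch S'' _ _ _ _ _ _ _ N'' _ _ _ _ _ _ i hi hflat
    haveI := T.finiteBA 0 (by omega)
    haveI := T.finiteM 0 (by omega)
    haveI := T.smooth 0 (by omega)
    haveI := T.fpSA
    let D := T.B 0
    let G := T.M 0
    let T' : FlatCA.CompleteDevissage R D (G ⧸ LinearMap.range (T.α 0)) p :=
      { n := T.n - 1
        pos := by omega
        A := fun i => T.A (i + 1)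
        B := fun i => T.B (i + 1)
        M := fun i => T.M (i + 1)
        r := fun i => T.r (i + 1)
        aSA := T.aBA' 0
        tRSA := T.tRBA' 0
        aBA' := fun i => T.aBA' (i + 1)
        tRBA' := fun i => T.tRBA' (i + 1)
        mSM := T.mB'M 0
        tSAM := T.tB'AM 0
        mB'M := fun i => T.mB'M (i + 1)
        tB'AM := fun i => T.tB'AM (i + 1)
        hp := fun i => T.hp (i + 1)
        α := fun i => T.α (i + 1)
        surjSA := T.surjBA' 0 (by omega)
        fpSA := T.fpBA' 0 (by omega)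
        surjBA' := fun i hi => T.surjBA' (i + 1) (by omega)
        fpBA' := fun i hi => T.fpBA' (i + 1) (by omega)
        finiteBA := fun i hi => T.finiteBA (i + 1) (by omega)
        smooth := fun i hi => T.smooth (i + 1) (by omega)
        geomIrred := fun i hi => T.geomIrred (i + 1) (by omega)
        finiteM := fun i hi => T.finiteM (i + 1) (by omega)
        isoN := T.isoCoker 0 (by omega)
        isoCoker := fun i hi => T.isoCoker (i + 1) (by omega)
        fibreIso := fun i hi => T.fibreIso (i + 1) (by omega)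
        cokerLast := by
          have h := T.cokerLast
          rw [show T.n - 1 = T.n - 1 - 1 + 1 by omega] at h
          exact h }
    exact step_free' p hA (D := T.B 0) T.isoN T.surjSA (T.geomIrred 0 (by omega)) (T.α 0)
      (T.fibreIso 0 (by omega)) Z₀ (Zs 0) (hne 0 (by omega)) (hover 0 (by omega)) h0
      (Or.inr fun D₁ _ _ _ _ _ _ _ M₂ _ _ _ _ _ _ j hj hfl =>
        IH T' (show T.n - 1 = k + 1 by omega) (Zs 0) (fun i => Zs (i + 1))
          (fun i hi' => hne (i + 1) (show i + 1 < T.n by have : i < T.n - 1 := hi'; omega))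
          (fun i hi' => hover (i + 1) (show i + 1 < T.n by have : i < T.n - 1 := hi'; omega))
          (hch 0 (by omega))
          (fun i hi' => hch (i + 1) (show i + 1 + 1 < T.n by have : i + 1 < T.n - 1 := hi'; omega))
          D₁ M₂ j hj hfl) S'' N'' i hi hflat

/-- With a complete dévissage at a point: flatness at the points over it suffices. -/
theorem free_of_completeDevissageAt {R A S : Type u} [CommRing R] [CommRing A] [IsLocalRing A] [Algebra R A]
    [CommRing S] [Algebra R S] {N : Type u} [AddCommGroup N] [Module S N]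
    {p : Ideal R} [p.IsPrime] (hA : (IsLocalRing.maximalIdeal A).comap (algebraMap R A) = p) {q : Ideal S} [q.IsPrime]
    (h : FlatCA.HasCompleteDevissageAt R S N p q)
    (S'' : Type u) [CommRing S''] [Algebra S S''] [Algebra A S''] [Algebra R S''] [IsScalarTower R A S'']
    [IsScalarTower R S S''] [Algebra.IsPushout R S A S''] (N'' : Type u) [AddCommGroup N''] [Module S'' N'']
    [Module S N''] [IsScalarTower S S'' N''] [Module A N''] [IsScalarTower A S'' N'']
    (i : N →ₗ[S] N'') (hi : IsBaseChange S'' i)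
    (hflat : ∀ Q : PrimeSpectrum S'', Q.asIdeal.comap (algebraMap A S'') = IsLocalRing.maximalIdeal A →
      Q.asIdeal.comap (algebraMap S S'') = q → FlatCA.FlatAt A Q.asIdeal N'') :
    Module.Free A N'' ∧ Module.FinitePresentation S'' N'' ∧
      NoTorsionOff A N'' {Q | Q.asIdeal.comap (algebraMap A S'') = IsLocalRing.maximalIdeal A ∧
        PrimeSpectrum.comap (algebraMap S S'') Q ∈ ({⟨q, inferInstance⟩} : Set (PrimeSpectrum S))} := by
  obtain ⟨T, ⟨hT⟩⟩ := h
  obtain ⟨k, hk⟩ := Nat.exists_eq_succ_of_ne_zero T.pos.ne'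
  refine completeDevissage_free_baseChange p hA k T hk {⟨q, inferInstance⟩}
    (fun i => {⟨hT.qB i, hT.hqB i⟩}) (fun i _ => Set.singleton_nonempty _) ?_ ?_ ?_ S'' N'' i hi
    fun Q hQ hQq => hflat Q hQ (by simpa using congrArg PrimeSpectrum.asIdeal (Set.mem_singleton_iff.1 hQq))
  · rintro i - y rfl
    haveI := hT.overB i
    exact ((hT.overB i).over).symm
  · intro z hz
    have hz' := hT.uniq 0 T.pos z.asIdeal ⟨(congrArg PrimeSpectrum.asIdeal hz).symm⟩
    apply PrimeSpectrum.ext
    show z.asIdeal.comap (algebraMap S (T.A 0)) = q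
    rw [hz', hT.q0]
  · intro i hi' z hz
    have hz' := hT.uniq (i + 1) hi' z.asIdeal ⟨(congrArg PrimeSpectrum.asIdeal hz).symm⟩
    apply PrimeSpectrum.ext
    show z.asIdeal.comap (algebraMap (T.B i) (T.A (i + 1))) = hT.qB i
    rw [hz', hT.qStep i hi']

/-- With a complete dévissage over a prime: flatness along the closed fibre suffices. -/
theorem free_of_completeDevissage {R A S : Type u} [CommRing R] [CommRing A] [IsLocalRing A] [Algebra R A]
    [CommRing S] [Algebra R S] {N : Type u} [AddCommGroup N] [Module S N]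
    {p : Ideal R} [p.IsPrime] (hA : (IsLocalRing.maximalIdeal A).comap (algebraMap R A) = p)
    (T : FlatCA.CompleteDevissage R S N p)
    (S'' : Type u) [CommRing S''] [Algebra S S''] [Algebra A S''] [Algebra R S''] [IsScalarTower R A S'']
    [IsScalarTower R S S''] [Algebra.IsPushout R S A S''] (N'' : Type u) [AddCommGroup N''] [Module S'' N'']
    [Module S N''] [IsScalarTower S S'' N''] [Module A N''] [IsScalarTower A S'' N'']
    (i : N →ₗ[S] N'') (hi : IsBaseChange S'' i)
    (hflat : ∀ Q : PrimeSpectrum S'', Q.asIdeal.comap (algebraMap A S'') = IsLocalRing.maximalIdeal A →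
      FlatCA.FlatAt A Q.asIdeal N'') :
    Module.Free A N'' ∧ Module.FinitePresentation S'' N'' ∧
      NoTorsionOff A N'' {Q | Q.asIdeal.comap (algebraMap A S'') = IsLocalRing.maximalIdeal A ∧
        PrimeSpectrum.comap (algebraMap S S'') Q ∈ (Set.univ : Set (PrimeSpectrum S))} := by
  obtain ⟨k, hk⟩ := Nat.exists_eq_succ_of_ne_zero T.pos.ne'
  refine completeDevissage_free_baseChange p hA k T hk Set.univ
    (fun i => {y | y.asIdeal.comap (algebraMap R (T.B i)) = p}) (fun i hi' => ?_) (fun i _ y hy => hy)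
    (fun z _ => Set.mem_univ _) ?_ S'' N'' i hi fun Q hQ _ => hflat Q hQ
  · haveI := T.smooth i hi'
    haveI := isPrime_map p (T.geomIrred i hi')
    exact ⟨⟨p.map (algebraMap R (T.B i)), inferInstance⟩, (liesOver_map p (T.geomIrred i hi')).over.symm⟩
  · intro i hi' z hz
    show (z.asIdeal.comap (algebraMap (T.B i) (T.A (i + 1)))).comap (algebraMap R (T.B i)) = p
    rw [Ideal.comap_comap, ← IsScalarTower.algebraMap_eq, IsScalarTower.algebraMap_eq R (T.B (i + 1)) (T.A (i + 1)),
      ← Ideal.comap_comap]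
    exact hz

end Groth.Agent.FlatCrit65.Dev
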